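import Mathlib.RingTheory.Finiteness.Descent
import Mathlib.RingTheory.Flat.FaithfullyFlat.Basic
import Mathlib.RingTheory.Flat.EquationalCriterion
import Mathlib.RingTheory.TensorProduct.Maps
import Mathlib.RingTheory.TensorProduct.IncludeLeftSubRight
import Mathlib.LinearAlgebra.TensorProduct.Pi
import Mathlib.LinearAlgebra.Matrix.ToLin
import Mathlib.Algebra.Module.Projective
import Mathlib.Data.Matrix.ColumnRowPartitioned

/-!
# Effective descent of idempotent matrices along a faithfully flat map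
-/

set_option autoImplicit false
set_option linter.unusedSectionVars false
set_option linter.style.haveILetI false
universe u

open scoped TensorProduct
open Matrix

namespace Groth.Agent.H8Props.WittDesc

variable (R S : Type u) [CommRing R] [CommRing S] [Algebra R S]

/-- A descent datum for a finitely generated projective module, in matrix form. -/
structure Datum (ι : Type) [Fintype ι] [DecidableEq ι] where
  /-- the idempotent cutting out the module -/
  e : Matrix ι ι S
  /-- the gluing matrices -/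
  θ : ∀ (T : Type u) [CommRing T] (g₁ g₂ : S →+* T),
    g₁.comp (algebraMap R S) = g₂.comp (algebraMap R S) → Matrix ι ι T
  natural : ∀ (T T' : Type u) [CommRing T] [CommRing T'] (h : T →+* T') (g₁ g₂ : S →+* T)
    (H : g₁.comp (algebraMap R S) = g₂.comp (algebraMap R S))
    (H' : (h.comp g₁).comp (algebraMap R S) = (h.comp g₂).comp (algebraMap R S)),
    θ T' (h.comp g₁) (h.comp g₂) H' = (θ T g₁ g₂ H).map h
  idem : e * e = e
  right : ∀ (T : Type u) [CommRing T] (g₁ g₂ : S →+* T)
    (H : g₁.comp (algebraMap R S) = g₂.comp (algebraMap R S)), θ T g₁ g₂ H * e.map g₁ = θ T g₁ g₂ H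
  left : ∀ (T : Type u) [CommRing T] (g₁ g₂ : S →+* T)
    (H : g₁.comp (algebraMap R S) = g₂.comp (algebraMap R S)), e.map g₂ * θ T g₁ g₂ H = θ T g₁ g₂ H
  self : ∀ (T : Type u) [CommRing T] (g : S →+* T), θ T g g rfl = e.map g
  comp : ∀ (T : Type u) [CommRing T] (g₁ g₂ g₃ : S →+* T)
    (H : g₁.comp (algebraMap R S) = g₂.comp (algebraMap R S))
    (H' : g₂.comp (algebraMap R S) = g₃.comp (algebraMap R S)),
    θ T g₂ g₃ H' * θ T g₁ g₂ H = θ T g₁ g₃ (H.trans H')

namespace Datum

variable {R S}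
variable {ι : Type} [Fintype ι] [DecidableEq ι] (D : Datum R S ι)

theorem θ_eq {T : Type u} [CommRing T] {T' : Type u} [CommRing T'] (h : T →+* T')
    (g₁ g₂ : S →+* T) (H : g₁.comp (algebraMap R S) = g₂.comp (algebraMap R S))
    (f₁ f₂ : S →+* T') (e₁ : h.comp g₁ = f₁) (e₂ : h.comp g₂ = f₂)
    (H' : f₁.comp (algebraMap R S) = f₂.comp (algebraMap R S)) :
    D.θ T' f₁ f₂ H' = (D.θ T g₁ g₂ H).map h := by
  subst e₁ e₂
  exact D.natural T T' h g₁ g₂ H H'

local notation "lL" => (Algebra.TensorProduct.includeLeftRingHom : S →+* S ⊗[R] S)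
local notation "rR" => ((Algebra.TensorProduct.includeRight : S →ₐ[R] S ⊗[R] S) : S →+* S ⊗[R] S)

theorem compat : (lL).comp (algebraMap R S) = (rR).comp (algebraMap R S) := by
  ext r
  simp [Algebra.TensorProduct.includeLeftRingHom]

/-- The universal gluing matrix. -/
noncomputable def θ₂ : Matrix ι ι (S ⊗[R] S) := D.θ (S ⊗[R] S) lL rR compat

/-- The defect of being a descended vector. -/
noncomputable def δ : (ι → S) →ₗ[R] (ι → S ⊗[R] S) where
  toFun x := D.θ₂ *ᵥ ((lL) ∘ x) - (rR) ∘ x
  map_add' x y := by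
    ext i
    simp only [Pi.sub_apply, Pi.add_apply, Function.comp_apply, Matrix.mulVec, dotProduct, map_add,
      mul_add, Finset.sum_add_distrib]
    abel
  map_smul' c x := by
    ext i
    have h1 : ∀ y : S, (lL) (c • y) = c • (lL) y := fun y =>
      map_smul (Algebra.TensorProduct.includeLeft : S →ₐ[R] S ⊗[R] S) c y
    have h2 : ∀ y : S, (rR) (c • y) = c • (rR) y := fun y =>
      map_smul (Algebra.TensorProduct.includeRight : S →ₐ[R] S ⊗[R] S) c y
    simp only [Pi.sub_apply, Pi.smul_apply, Function.comp_apply, Matrix.mulVec, dotProduct, h1, h2,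
      mul_smul_comm, ← Finset.smul_sum, RingHom.id_apply, smul_sub]

theorem δ_eq_zero_iff (x : ι → S) : D.δ x = 0 ↔ D.θ₂ *ᵥ ((lL) ∘ x) = (rR) ∘ x :=
  sub_eq_zero

theorem fixed_of_δ {x : ι → S} (hx : D.δ x = 0) : D.e *ᵥ x = x := by
  have h := (D.δ_eq_zero_iff x).1 hx
  let m : S ⊗[R] S →+* S := (Algebra.TensorProduct.lmul' (S := S) R).toRingHom
  have h1 : m.comp lL = RingHom.id S := RingHom.ext fun s => by
    simp [m, Algebra.TensorProduct.includeLeftRingHom]
  have h2 : m.comp rR = RingHom.id S := RingHom.ext fun s => by simp [m]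
  have h3 := D.θ_eq m _ _ compat _ _ h1 h2 rfl
  rw [D.self] at h3
  ext i
  have h4 := congrArg (fun w : ι → S ⊗[R] S => m (w i)) h
  simp only [Matrix.mulVec, dotProduct, map_sum, map_mul, Function.comp_apply] at h4
  simp only [← RingHom.comp_apply, h1, h2, RingHom.id_apply] at h4
  rw [← h4, Matrix.mulVec, dotProduct]
  refine Finset.sum_congr rfl fun k _ => ?_
  congr 1
  exact congrFun (congrFun h3 i) k

/-- The descended vectors. -/
noncomputable def M₁ : Submodule R (ι → S) := LinearMap.ker D.δ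

/-- The comparison map. -/
noncomputable def Q : S ⊗[R] D.M₁ →ₗ[S] (ι → S) := D.M₁.subtype.liftBaseChange S

/-- Coordinates of a tensor with vectors. -/
noncomputable abbrev P₂ : S ⊗[R] (ι → S) ≃ₗ[S] (ι → S ⊗[R] S) :=
  TensorProduct.piRight R S S (fun _ : ι => S)

/-- The candidate preimage of a vector. -/
noncomputable def z (x : ι → S) : S ⊗[R] (ι → S) := (P₂).symm (D.θ₂ *ᵥ ((lL) ∘ x))

theorem P₂_z (x : ι → S) : P₂ (D.z x) = D.θ₂ *ᵥ ((lL) ∘ x) := LinearEquiv.apply_symm_apply _ _

theorem liftId_eq (w : S ⊗[R] (ι → S)) (i : ι) :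
    (LinearMap.id : (ι → S) →ₗ[R] (ι → S)).liftBaseChange S w i =
      Algebra.TensorProduct.lmul' (S := S) R (P₂ w i) := by
  induction w with
  | zero => simp
  | tmul s x => simp
  | add a b ha hb => simp only [map_add, Pi.add_apply, ha, hb]

theorem liftId_z {x : ι → S} (hx : D.e *ᵥ x = x) :
    (LinearMap.id : (ι → S) →ₗ[R] (ι → S)).liftBaseChange S (D.z x) = x := by
  let m : S ⊗[R] S →+* S := (Algebra.TensorProduct.lmul' (S := S) R).toRingHom
  have h1 : m.comp lL = RingHom.id S := RingHom.ext fun s => by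
    simp [m, Algebra.TensorProduct.includeLeftRingHom]
  have h2 : m.comp rR = RingHom.id S := RingHom.ext fun s => by simp [m]
  have h3 := D.θ_eq m _ _ compat _ _ h1 h2 rfl
  rw [D.self] at h3
  ext i
  rw [liftId_eq, P₂_z]
  show m ((D.θ₂ *ᵥ ((lL) ∘ x)) i) = x i
  simp only [Matrix.mulVec, dotProduct, map_sum, map_mul, Function.comp_apply]
  simp only [← RingHom.comp_apply, h1, RingHom.id_apply]
  conv_rhs => rw [← hx]
  refine Finset.sum_congr rfl fun k _ => ?_
  congr 1
  exact (congrFun (congrFun h3 i) k).symm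

theorem lTensor_δ_z (x : ι → S) : D.δ.lTensor S (D.z x) = 0 := by
  let P₃ : S ⊗[R] (ι → S ⊗[R] S) ≃ₗ[S] (ι → S ⊗[R] (S ⊗[R] S)) :=
    TensorProduct.piRight R S S (fun _ : ι => S ⊗[R] S)
  let j₂ : S ⊗[R] S →+* S ⊗[R] (S ⊗[R] S) :=
    (Algebra.TensorProduct.includeRight : S ⊗[R] S →ₐ[R] S ⊗[R] (S ⊗[R] S))
  let hab : S ⊗[R] S →+* S ⊗[R] (S ⊗[R] S) :=
    (Algebra.TensorProduct.map (AlgHom.id R S)
      (Algebra.TensorProduct.includeLeft : S →ₐ[R] S ⊗[R] S)).toRingHom
  let hac : S ⊗[R] S →+* S ⊗[R] (S ⊗[R] S) :=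
    (Algebra.TensorProduct.map (AlgHom.id R S)
      (Algebra.TensorProduct.includeRight : S →ₐ[R] S ⊗[R] S)).toRingHom
  let a : S →+* S ⊗[R] (S ⊗[R] S) := Algebra.TensorProduct.includeLeftRingHom
  have ea : hab.comp lL = a := RingHom.ext fun s => by
    simp [hab, a, Algebra.TensorProduct.includeLeftRingHom, Algebra.TensorProduct.one_def]
  have ea' : hac.comp lL = a := RingHom.ext fun s => by
    simp [hac, a, Algebra.TensorProduct.includeLeftRingHom, Algebra.TensorProduct.one_def]
  have eb : hab.comp rR = j₂.comp lL := RingHom.ext fun s => by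
    simp [hab, j₂, Algebra.TensorProduct.includeLeftRingHom]
  have ec : hac.comp rR = j₂.comp rR := RingHom.ext fun s => by
    simp [hac, j₂]
  have Hab : a.comp (algebraMap R S) = (j₂.comp lL).comp (algebraMap R S) := by
    rw [← ea, ← eb, RingHom.comp_assoc, RingHom.comp_assoc, compat]
  have Hbc : (j₂.comp lL).comp (algebraMap R S) = (j₂.comp rR).comp (algebraMap R S) := by
    rw [RingHom.comp_assoc, RingHom.comp_assoc, compat]
  have key : ∀ (w : S ⊗[R] (ι → S)) (i : ι), P₃ (D.δ.lTensor S w) i =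
      ∑ k, j₂ (D.θ₂ i k) * hab (P₂ w k) - hac (P₂ w i) := by
    intro w i
    induction w with
    | zero => simp
    | tmul s y =>
      simp only [LinearMap.lTensor_tmul, P₃, TensorProduct.piRight_apply,
        TensorProduct.piRightHom_tmul]
      show s ⊗ₜ[R] ((D.θ₂ *ᵥ ((lL) ∘ y)) i - (rR) (y i)) = _
      rw [TensorProduct.tmul_sub, Matrix.mulVec, dotProduct, TensorProduct.tmul_sum]
      simp [hab, hac, j₂, Algebra.TensorProduct.includeLeftRingHom]
    | add b c hb hc =>
      simp only [map_add, Pi.add_apply, mul_add, Finset.sum_add_distrib, hb, hc]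
      abel
  apply P₃.injective
  ext i
  rw [map_zero, Pi.zero_apply, key]
  simp only [P₂_z]
  have h1 : ∀ k, hab ((D.θ₂ *ᵥ ((lL) ∘ x)) k) = (D.θ _ a (j₂.comp lL) Hab *ᵥ (a ∘ x)) k := by
    intro k
    rw [RingHom.map_mulVec, D.θ_eq hab lL rR compat a (j₂.comp lL) ea eb Hab, ← Function.comp_assoc,
      show (hab ∘ (lL)) = (a : S → _) from funext (RingHom.congr_fun ea)]
    rfl
  have h2 : hac ((D.θ₂ *ᵥ ((lL) ∘ x)) i) =
      (D.θ _ a (j₂.comp rR) (Hab.trans Hbc) *ᵥ (a ∘ x)) i := by
    rw [RingHom.map_mulVec, D.θ_eq hac lL rR compat a (j₂.comp rR) ea' ec (Hab.trans Hbc),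
      ← Function.comp_assoc,
      show (hac ∘ (lL)) = (a : S → _) from funext (RingHom.congr_fun ea')]
    rfl
  simp only [h1]
  rw [h2, ← D.comp _ a (j₂.comp lL) (j₂.comp rR) Hab Hbc, ← Matrix.mulVec_mulVec,
    D.θ_eq j₂ lL rR compat _ _ rfl rfl Hbc, sub_eq_zero]
  rfl

theorem P₂_lTensor_subtype (y : S ⊗[R] D.M₁) :
    P₂ (D.M₁.subtype.lTensor S y) = D.θ₂ *ᵥ ((lL) ∘ D.Q y) := by
  induction y with
  | zero =>
    ext i
    simp [Matrix.mulVec, dotProduct]
  | tmul s m =>
    ext i
    have h := congrFun ((D.δ_eq_zero_iff (m : ι → S)).1 m.2) i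
    simp only [Matrix.mulVec, dotProduct, Function.comp_apply] at h
    simp only [LinearMap.lTensor_tmul, Submodule.subtype_apply, TensorProduct.piRight_apply,
      TensorProduct.piRightHom_tmul, Q, LinearMap.liftBaseChange_tmul, Matrix.mulVec, dotProduct,
      Function.comp_apply, Pi.smul_apply, smul_eq_mul, map_mul]
    simp only [mul_left_comm (D.θ₂ i _), ← Finset.mul_sum, h]
    simp [Algebra.TensorProduct.includeLeftRingHom]
  | add a b ha hb =>
    ext i
    simp only [map_add, Pi.add_apply, ha, hb, Matrix.mulVec, dotProduct, Function.comp_apply,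
      mul_add, Finset.sum_add_distrib]

theorem Q_eq (y : S ⊗[R] D.M₁) :
    D.Q y = (LinearMap.id : (ι → S) →ₗ[R] (ι → S)).liftBaseChange S (D.M₁.subtype.lTensor S y) := by
  induction y with
  | zero => simp
  | tmul s m => simp [Q]
  | add a b ha hb => simp only [map_add, ha, hb]

theorem Q_injective [Module.Flat R S] : Function.Injective D.Q := by
  intro y y' h
  refine Module.Flat.lTensor_preserves_injective_linearMap (M := S) D.M₁.subtype
    D.M₁.injective_subtype ?_
  apply (P₂ (R := R) (S := S) (ι := ι)).injective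
  rw [P₂_lTensor_subtype, P₂_lTensor_subtype, h]

theorem range_Q [Module.Flat R S] : LinearMap.range D.Q = LinearMap.range D.e.mulVecLin := by
  refine le_antisymm ?_ ?_
  · rintro _ ⟨y, rfl⟩
    refine ⟨D.Q y, ?_⟩
    induction y with
    | zero => simp
    | tmul s m => simp [Q, Matrix.mulVec_smul, D.fixed_of_δ m.2]
    | add a b ha hb =>
      simp only [Matrix.mulVecLin_apply] at ha hb ⊢
      rw [map_add, Matrix.mulVec_add, ha, hb]
  · rintro _ ⟨x, rfl⟩
    have hx : D.e *ᵥ (D.e *ᵥ x) = D.e *ᵥ x := by rw [Matrix.mulVec_mulVec, D.idem]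
    obtain ⟨y, hy⟩ := (Module.Flat.lTensor_exact (M := S)
      (LinearMap.exact_subtype_ker_map D.δ) (D.z (D.e *ᵥ x))).1 (D.lTensor_δ_z _)
    exact ⟨y, by rw [Q_eq, show D.M₁.subtype.lTensor S y = _ from hy, D.liftId_z hx]; rfl⟩

/-- Effectivity of descent. -/
theorem exists_effective [Module.FaithfullyFlat R S] :
    ∃ (s : ℕ) (f : Matrix (Fin s) (Fin s) R) (v : Matrix ι (Fin s) S) (u : Matrix (Fin s) ι S),
      f * f = f ∧ v * u = D.e ∧ u * v = f.map (algebraMap R S) ∧ D.e * v = v ∧
      ∀ (T : Type u) [CommRing T] (g₁ g₂ : S →+* T)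
        (H : g₁.comp (algebraMap R S) = g₂.comp (algebraMap R S)),
        D.θ T g₁ g₂ H * v.map g₁ = v.map g₂ := by
  let E : S ⊗[R] D.M₁ ≃ₗ[S] LinearMap.range D.e.mulVecLin :=
    LinearEquiv.ofInjective D.Q D.Q_injective ≪≫ₗ LinearEquiv.ofEq _ _ D.range_Q
  have hproj : Module.Projective S (LinearMap.range D.e.mulVecLin) := by
    refine Module.Projective.of_split (LinearMap.range D.e.mulVecLin).subtype
      D.e.mulVecLin.rangeRestrict ?_
    ext ⟨_, x, rfl⟩ : 1
    apply Subtype.ext
    simp [Matrix.mulVec_mulVec, D.idem]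
  have : Module.Finite S (S ⊗[R] D.M₁) := Module.Finite.equiv E.symm
  have : Module.Projective S (S ⊗[R] D.M₁) := Module.Projective.of_equiv E.symm
  have : Module.Finite R D.M₁ := .of_finite_tensorProduct_of_faithfullyFlat S
  have : Module.Flat R D.M₁ := Module.Flat.of_flat_tensorProduct R D.M₁ S
  obtain ⟨s, π₀, hπ₀⟩ := Module.Finite.exists_fin' R D.M₁
  have hfg : (LinearMap.ker π₀).FG := by
    have hsurj : Function.Surjective (π₀.baseChange S) := by
      intro y
      obtain ⟨w, hw⟩ := LinearMap.lTensor_surjective S hπ₀ y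
      exact ⟨w, hw⟩
    obtain ⟨σ, hσ⟩ := Module.projective_lifting_property (π₀.baseChange S) LinearMap.id hsurj
    have hinj : Function.Injective ((LinearMap.ker π₀).subtype.baseChange S) := fun a b h =>
      Module.Flat.lTensor_preserves_injective_linearMap (M := S) _
        (LinearMap.ker π₀).injective_subtype h
    have hex := Module.Flat.lTensor_exact (M := S) (LinearMap.exact_subtype_ker_map π₀)
    have hr : LinearMap.range ((LinearMap.ker π₀).subtype.baseChange S) =
        LinearMap.range (LinearMap.id - σ ∘ₗ π₀.baseChange S) := by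
      refine le_antisymm ?_ ?_
      · rintro _ ⟨a, rfl⟩
        refine ⟨(LinearMap.ker π₀).subtype.baseChange S a, ?_⟩
        have h0 : π₀.baseChange S ((LinearMap.ker π₀).subtype.baseChange S a) = 0 :=
          (hex _).2 ⟨a, rfl⟩
        simp [h0]
      · rintro _ ⟨b, rfl⟩
        obtain ⟨a, ha⟩ := (hex ((LinearMap.id - σ ∘ₗ π₀.baseChange S : _ →ₗ[S] _) b)).1 (by
          show π₀.baseChange S _ = 0
          have h1 := LinearMap.congr_fun hσ (π₀.baseChange S b)
          simp only [LinearMap.comp_apply, LinearMap.id_apply] at h1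
          rw [LinearMap.sub_apply, map_sub, LinearMap.comp_apply, h1, LinearMap.id_apply, sub_self])
        exact ⟨a, ha⟩
    have : Module.Finite S (S ⊗[R] LinearMap.ker π₀) :=
      Module.Finite.equiv (LinearEquiv.ofInjective _ hinj ≪≫ₗ LinearEquiv.ofEq _ _ hr).symm
    have : Module.Finite R (LinearMap.ker π₀) := .of_finite_tensorProduct_of_faithfullyFlat S
    exact Module.Finite.iff_fg.1 this
  have : Module.FinitePresentation R D.M₁ := Module.finitePresentation_of_surjective π₀ hπ₀ hfg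
  have : Module.Projective R D.M₁ := Module.Flat.projective_of_finitePresentation
  obtain ⟨ι₀, hι₀⟩ := Module.projective_lifting_property π₀ LinearMap.id hπ₀
  have hι₀' : ∀ m, π₀ (ι₀ m) = m := LinearMap.congr_fun hι₀
  let v : Matrix ι (Fin s) S := Matrix.of fun i k => (π₀ (Pi.single k 1) : ι → S) i
  let L : S ⊗[R] D.M₁ →ₗ[S] (Fin s → S) :=
    (((Algebra.linearMap R S).compLeft (Fin s)) ∘ₗ ι₀).liftBaseChange S
  let U : (ι → S) →ₗ[S] (Fin s → S) := L ∘ₗ E.symm.toLinearMap ∘ₗ D.e.mulVecLin.rangeRestrict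
  have hvL : ∀ y, v *ᵥ L y = D.Q y := by
    intro y
    induction y with
    | zero => simp
    | tmul t m =>
      have hm := congrArg (fun w : D.M₁ => (w : ι → S)) (hι₀' m)
      simp only [L, Q, LinearMap.liftBaseChange_tmul, Matrix.mulVec_smul, Submodule.subtype_apply]
      congr 1
      ext i
      simp only [Matrix.mulVec, dotProduct]
      conv_rhs => rw [← hm]
      conv_rhs =>
        rw [show ι₀ m = ∑ k, ι₀ m k • (Pi.single k (1 : R) : Fin s → R) from by
          ext l; simp [Pi.single_apply]]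
      simp only [map_sum, map_smul, Submodule.coe_sum, Submodule.coe_smul, Finset.sum_apply,
        Pi.smul_apply]
      simp [v, Algebra.smul_def, mul_comm]
    | add a b ha hb => simp only [map_add, Matrix.mulVec_add, ha, hb]
  have hQE : ∀ x : LinearMap.range D.e.mulVecLin, D.Q (E.symm x) = x := by
    intro x
    conv_rhs => rw [← E.apply_symm_apply x]
    rfl
  refine ⟨s, LinearMap.toMatrix' (ι₀ ∘ₗ π₀), v, LinearMap.toMatrix' U, ?_, ?_, ?_, ?_, ?_⟩
  · rw [← LinearMap.toMatrix'_comp]
    congr 1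
    ext k : 2
    simp [hι₀']
  · apply Matrix.ext_of_mulVec_single
    intro i
    rw [← Matrix.mulVec_mulVec, LinearMap.toMatrix'_mulVec]
    show v *ᵥ L (E.symm (D.e.mulVecLin.rangeRestrict _)) = _
    rw [hvL, hQE]
    rfl
  · ext l k
    rw [Matrix.mul_apply, Matrix.map_apply, LinearMap.toMatrix'_apply]
    have h1 : ∑ i, LinearMap.toMatrix' U l i * v i k =
        (LinearMap.toMatrix' U *ᵥ (π₀ (Pi.single k 1) : ι → S)) l := rfl
    rw [h1, LinearMap.toMatrix'_mulVec]
    have h2 : D.e.mulVecLin.rangeRestrict (π₀ (Pi.single k 1) : ι → S) =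
        E ((1 : S) ⊗ₜ[R] π₀ (Pi.single k 1)) := by
      apply Subtype.ext
      have := D.fixed_of_δ (π₀ (Pi.single k 1)).2
      simpa [E, Q] using this
    simp [U, L, h2]
  · ext i k
    exact congrFun (D.fixed_of_δ (π₀ (Pi.single k 1)).2) i
  · intro T _ g₁ g₂ H
    letI : Algebra R T := (g₁.comp (algebraMap R S)).toAlgebra
    let a₁ : S →ₐ[R] T := { g₁ with commutes' := fun r => rfl }
    let a₂ : S →ₐ[R] T := { g₂ with commutes' := fun r => (RingHom.congr_fun H r).symm }
    let h : S ⊗[R] S →+* T := (Algebra.TensorProduct.productMap a₁ a₂).toRingHom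
    have h1 : h.comp lL = g₁ := RingHom.ext fun x => by
      simp [h, a₁, a₂, Algebra.TensorProduct.includeLeftRingHom]
    have h2 : h.comp rR = g₂ := RingHom.ext fun x => by simp [h, a₁, a₂]
    rw [D.θ_eq h lL rR compat g₁ g₂ h1 h2 H]
    ext i k
    have := congrArg h (congrFun ((D.δ_eq_zero_iff _).1 (π₀ (Pi.single k 1)).2) i)
    simp only [Matrix.mulVec, dotProduct, map_sum, map_mul, Function.comp_apply] at this
    simp only [← RingHom.comp_apply, h1, h2] at this
    simpa [Matrix.mul_apply, v, θ₂] using this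

variable {κ : Type} [Fintype κ] [DecidableEq κ]

/-- A one-cocycle with values in a descended module is a coboundary. -/
theorem exists_coboundary [Module.FaithfullyFlat R S]
    (c : ∀ (T : Type u) [CommRing T] (g₁ g₂ : S →+* T),
      g₁.comp (algebraMap R S) = g₂.comp (algebraMap R S) → Matrix ι κ T)
    (cn : ∀ (T T' : Type u) [CommRing T] [CommRing T'] (h : T →+* T') (g₁ g₂ : S →+* T)
      (H : g₁.comp (algebraMap R S) = g₂.comp (algebraMap R S))
      (H' : (h.comp g₁).comp (algebraMap R S) = (h.comp g₂).comp (algebraMap R S)),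
      c T' (h.comp g₁) (h.comp g₂) H' = (c T g₁ g₂ H).map h)
    (cl : ∀ (T : Type u) [CommRing T] (g₁ g₂ : S →+* T)
      (H : g₁.comp (algebraMap R S) = g₂.comp (algebraMap R S)),
      D.e.map g₂ * c T g₁ g₂ H = c T g₁ g₂ H)
    (cs : ∀ (T : Type u) [CommRing T] (g : S →+* T), c T g g rfl = 0)
    (cc : ∀ (T : Type u) [CommRing T] (g₁ g₂ g₃ : S →+* T)
      (H : g₁.comp (algebraMap R S) = g₂.comp (algebraMap R S))
      (H' : g₂.comp (algebraMap R S) = g₃.comp (algebraMap R S)),
      D.θ T g₂ g₃ H' * c T g₁ g₂ H + c T g₂ g₃ H' = c T g₁ g₃ (H.trans H')) :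
    ∃ y : Matrix ι κ S, D.e * y = y ∧
      ∀ (T : Type u) [CommRing T] (g₁ g₂ : S →+* T)
        (H : g₁.comp (algebraMap R S) = g₂.comp (algebraMap R S)),
        D.θ T g₁ g₂ H * y.map g₁ + c T g₁ g₂ H = y.map g₂ := by
  let D' : Datum R S (ι ⊕ κ) :=
    { e := fromBlocks D.e 0 0 1
      θ := fun T _ g₁ g₂ H => fromBlocks (D.θ T g₁ g₂ H) (c T g₁ g₂ H) 0 1
      natural := by
        intro T T' _ _ h g₁ g₂ H H'
        rw [fromBlocks_map, D.natural T T' h g₁ g₂ H H', cn T T' h g₁ g₂ H H',
          Matrix.map_zero _ (map_zero h), Matrix.map_one _ (map_zero h) (map_one h)]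
      idem := by simp [fromBlocks_multiply, D.idem]
      right := by
        intro T _ g₁ g₂ H
        simp [fromBlocks_map, fromBlocks_multiply, D.right]
      left := by
        intro T _ g₁ g₂ H
        simp [fromBlocks_map, fromBlocks_multiply, D.left, cl]
      self := by
        intro T _ g
        simp [fromBlocks_map, D.self, cs]
      comp := by
        intro T _ g₁ g₂ g₃ H H'
        simp [fromBlocks_multiply, D.comp T g₁ g₂ g₃ H H', cc T g₁ g₂ g₃ H H'] }
  obtain ⟨m, f, v, u', hf, hvu, huv, hev, hfix⟩ := D'.exists_effective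
  obtain ⟨Y, Z, rfl⟩ : ∃ (Y : Matrix ι (Fin m) S) (Z : Matrix κ (Fin m) S), v = fromRows Y Z :=
    ⟨_, _, (fromRows_toRows v).symm⟩
  obtain ⟨U₀, U₁, rfl⟩ : ∃ (U₀ : Matrix (Fin m) ι S) (U₁ : Matrix (Fin m) κ S),
      u' = fromCols U₀ U₁ := ⟨_, _, (fromCols_toCols u').symm⟩
  have hZU : Z * U₁ = 1 := by
    rw [fromRows_mul_fromCols] at hvu
    exact (fromBlocks_inj.1 hvu).2.2.2
  have hY : D.e * Y = Y := by
    have h := hev
    simp only [D', fromBlocks_mul_fromRows, Matrix.zero_mul, add_zero, zero_add, Matrix.one_mul] at h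
    exact (fromRows_inj.eq_iff.1 h : _ ∧ _).1
  have hfix' : ∀ (T : Type u) [CommRing T] (g₁ g₂ : S →+* T)
      (H : g₁.comp (algebraMap R S) = g₂.comp (algebraMap R S)),
      D.θ T g₁ g₂ H * Y.map g₁ + c T g₁ g₂ H * Z.map g₁ = Y.map g₂ ∧ Z.map g₁ = Z.map g₂ := by
    intro T _ g₁ g₂ H
    have h := hfix T g₁ g₂ H
    have hm : ∀ g : S →+* T, (fromRows Y Z).map g = fromRows (Y.map g) (Z.map g) := by
      intro g
      ext (i | i) j <;> rfl
    simp only [D', hm, fromBlocks_mul_fromRows, Matrix.zero_mul, zero_add, Matrix.one_mul] at h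
    exact fromRows_inj.eq_iff.1 h
  have hZ : ∀ l k, ∃ a : R, algebraMap R S a = Z l k := by
    intro l k
    have h := congrFun (congrFun (hfix' _ lL rR compat).2 l) k
    have h0 : Algebra.TensorProduct.includeLeftSubRight R S (Z l k) = 0 := by
      rw [Algebra.TensorProduct.includeLeftSubRight_apply, sub_eq_zero]
      simpa [Algebra.TensorProduct.includeLeftRingHom] using h
    exact (Algebra.IsEffective.of_faithfullyFlat R S (Z l k)).mp h0
  choose Zr hZr using hZ
  let Lz : (Fin m → R) →ₗ[R] (κ → R) := (Matrix.of Zr).mulVecLin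
  have hLz : Function.Surjective Lz := by
    rw [← Module.FaithfullyFlat.lTensor_surjective_iff_surjective R S]
    intro w
    induction w with
    | zero => exact ⟨0, map_zero _⟩
    | add a b ha hb =>
      obtain ⟨a', rfl⟩ := ha
      obtain ⟨b', rfl⟩ := hb
      exact ⟨a' + b', map_add _ _ _⟩
    | tmul t x =>
      refine ⟨∑ i, (t * algebraMap R S (x i)) • ∑ k, U₁ k i ⊗ₜ[R] (Pi.single k (1 : R)), ?_⟩
      apply (TensorProduct.piScalarRight R S S κ).injective
      ext l
      simp only [map_sum, Finset.sum_apply, TensorProduct.smul_tmul', LinearMap.lTensor_tmul,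
        Finset.smul_sum, TensorProduct.piScalarRight_apply, TensorProduct.piScalarRightHom_tmul,
        smul_eq_mul, Lz, Matrix.mulVecLin_apply, Matrix.mulVec_single_one, Matrix.col_apply,
        Matrix.of_apply, Algebra.smul_def, hZr]
      have hl := fun i => congrFun (congrFun hZU l) i
      simp only [Matrix.mul_apply, Matrix.one_apply] at hl
      have hrw : ∀ i k, Z l k * (t * algebraMap R S (x i) * U₁ k i) =
          t * algebraMap R S (x i) * (Z l k * U₁ k i) := fun i k => by ring
      simp [mul_comm (U₁ _ _), mul_comm (algebraMap R S _) t]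
      simp [hrw, ← Finset.mul_sum, hl]
  choose q hq using fun l : κ => hLz (Pi.single l 1)
  let Qm : Matrix (Fin m) κ R := Matrix.of fun k l => q l k
  have hZQ : Z * Qm.map (algebraMap R S) = 1 := by
    ext l i
    have h := congrArg (algebraMap R S) (congrFun (hq i) l)
    simp only [Lz, Matrix.mulVecLin_apply, Matrix.mulVec, dotProduct, Matrix.of_apply, map_sum,
      map_mul, hZr] at h
    simp [Matrix.mul_apply, Qm, h, Pi.single_apply, Matrix.one_apply]
  refine ⟨Y * Qm.map (algebraMap R S), by rw [← Matrix.mul_assoc, hY], fun T _ g₁ g₂ H => ?_⟩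
  have hQ : (Qm.map (algebraMap R S)).map g₁ = (Qm.map (algebraMap R S)).map g₂ := by
    ext k l
    exact RingHom.congr_fun H _
  obtain ⟨h1, -⟩ := hfix' T g₁ g₂ H
  rw [Matrix.map_mul, Matrix.map_mul, ← Matrix.mul_assoc]
  have h2 : c T g₁ g₂ H = c T g₁ g₂ H * Z.map g₁ * (Qm.map (algebraMap R S)).map g₁ := by
    rw [Matrix.mul_assoc, ← Matrix.map_mul, hZQ, Matrix.map_one _ (map_zero g₁) (map_one g₁),
      Matrix.mul_one]
  conv_lhs => arg 2; rw [h2]
  rw [← Matrix.add_mul, h1, hQ]

end Datum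

end Groth.Agent.H8Props.WittDesc
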