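import Groth.Agent.H8Props.WittDesc.Translate

/-!
# Isomorphisms of descent data checked on generators
-/

set_option autoImplicit false
set_option linter.unusedSectionVars false
set_option backward.isDefEq.respectTransparency false
universe u

open CategoryTheory ModuleCat Opposite
open scoped ChangeOfRings
open Groth.Agent.H3CAlg.WittDescent (pure mapComp'_hom_pure mapComp'_inv_pure)

namespace Groth.Agent.H8Props.WittDesc

variable {C : Type (u + 1)} [Category.{u} C] (H : Cᵒᵖ ⥤ CommRingCat.{u})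

attribute [-instance] CategoryStruct.opposite in
theorem toDescentData_hom_gen {S X Y : C} (a : X ⟶ S) (f₁ f₂ : Y ⟶ X) (h₂ : f₂ ≫ a = f₁ ≫ a)
    (M : ModuleCat.{u} (H.obj (op S))) (m : M)
    (φ : (extendScalars (H.map f₁.op).hom).obj ((extendScalars (H.map a.op).hom).obj M) ⟶
      (extendScalars (H.map f₂.op).hom).obj ((extendScalars (H.map a.op).hom).obj M))
    (hφ : φ = (((H.toPseudofunctor.comp CommRingCat.moduleCatExtendScalarsPseudofunctor).toDescentData
      (fun _ : PUnit.{u + 1} => a)).obj M).hom (f₁ ≫ a) (i₁ := PUnit.unit) (i₂ := PUnit.unit)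
        f₁ f₂ rfl h₂) :
    φ (pure (H.map f₁.op).hom _ 1 (pure (H.map a.op).hom M 1 m)) =
      pure (H.map f₂.op).hom _ 1 (pure (H.map a.op).hom M 1 m) := by
  subst hφ
  have hinv := mapComp'_inv_pure H a.op f₁.op (f₁ ≫ a).op rfl M 1 m _ rfl
  have hhom := mapComp'_hom_pure H a.op f₂.op (f₁ ≫ a).op
    (congrArg (fun k => k.op.toLoc) h₂) M m _ rfl
  rw [map_one] at hinv
  exact (congrArg _ hinv).trans hhom

attribute [-instance] CategoryStruct.opposite in
/-- The effect of a gluing map on a generator. -/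
def FixesGen {S X : C} (a : X ⟶ S)
    (D : (H.toPseudofunctor.comp CommRingCat.moduleCatExtendScalarsPseudofunctor).DescentData
      (fun _ : PUnit.{u + 1} => a))
    (w : (show ModuleCat.{u} (H.obj (op X)) from D.obj PUnit.unit)) : Prop :=
  ∀ (Y : C) (f₁ f₂ : Y ⟶ X) (h₂ : f₂ ≫ a = f₁ ≫ a)
    (φ : (extendScalars (H.map f₁.op).hom).obj (D.obj PUnit.unit) ⟶
      (extendScalars (H.map f₂.op).hom).obj (D.obj PUnit.unit)),
    φ = D.hom (f₁ ≫ a) (i₁ := PUnit.unit) (i₂ := PUnit.unit) f₁ f₂ rfl h₂ →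
    φ (pure (H.map f₁.op).hom _ 1 w) = pure (H.map f₂.op).hom _ 1 w

attribute [-instance] CategoryStruct.opposite in
theorem nonempty_iso_of_gen {S X : C} (a : X ⟶ S)
    (D : (H.toPseudofunctor.comp CommRingCat.moduleCatExtendScalarsPseudofunctor).DescentData
      (fun _ : PUnit.{u + 1} => a))
    (M : ModuleCat.{u} (H.obj (op S)))
    (e : (extendScalars (H.map a.op).hom).obj M ≅ D.obj PUnit.unit)
    (he : ∀ m : M, FixesGen H a D (e.hom (pure (H.map a.op).hom M 1 m))) :
    Nonempty (((H.toPseudofunctor.comp CommRingCat.moduleCatExtendScalarsPseudofunctor).toDescentData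
      (fun _ : PUnit.{u + 1} => a)).obj M ≅ D) := by
  refine ⟨Pseudofunctor.DescentData.isoMk (fun _ => e) ?_⟩
  intro Y q i₁ i₂ f₁ f₂ hf₁ hf₂
  obtain rfl : i₁ = PUnit.unit := rfl
  obtain rfl : i₂ = PUnit.unit := rfl
  subst hf₁
  apply hom_ext₂ (H.map a.op).hom M (H.map f₁.op).hom
  intro m
  rw [ConcreteCategory.comp_apply, ConcreteCategory.comp_apply]
  refine (he m Y f₁ f₂ hf₂ _ rfl).trans ?_
  exact (congrArg ((extendScalars (H.map f₂.op).hom).map e.hom)
    (toDescentData_hom_gen H a f₁ f₂ hf₂ M m _ rfl)).symm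

end Groth.Agent.H8Props.WittDesc
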