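import Groth.Agent.H8Props.WittDesc.Witt
import Groth.Agent.H8Props.WittDesc.Effective
import Mathlib.RingTheory.Idempotents

/-!
# Effective descent of idempotent matrices over truncated Witt vectors
-/

set_option autoImplicit false
set_option linter.unusedSectionVars false
universe u

open Matrix

namespace Groth.Agent.H8Props.WittDesc

variable (p : ℕ) [hp : Fact p.Prime] (n : ℕ)

local notation "W" => TruncatedWittVector p n
local notation "Wm" => WittGrp.truncMap p n

variable (R S : Type u) [CommRing R] [CommRing S] [Algebra R S]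

/-- A descent datum over truncated Witt vectors in matrix form. -/
structure WDatum (ι : Type) [Fintype ι] [DecidableEq ι] where
  /-- the idempotent -/
  e : Matrix ι ι (W S)
  /-- the gluing matrices -/
  θ : ∀ (T : Type u) [CommRing T] (g₁ g₂ : S →+* T),
    g₁.comp (algebraMap R S) = g₂.comp (algebraMap R S) → Matrix ι ι (W T)
  natural : ∀ (T T' : Type u) [CommRing T] [CommRing T'] (h : T →+* T') (g₁ g₂ : S →+* T)
    (H : g₁.comp (algebraMap R S) = g₂.comp (algebraMap R S))
    (H' : (h.comp g₁).comp (algebraMap R S) = (h.comp g₂).comp (algebraMap R S)),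
    θ T' (h.comp g₁) (h.comp g₂) H' = (θ T g₁ g₂ H).map (Wm h)
  idem : e * e = e
  right : ∀ (T : Type u) [CommRing T] (g₁ g₂ : S →+* T)
    (H : g₁.comp (algebraMap R S) = g₂.comp (algebraMap R S)),
    θ T g₁ g₂ H * e.map (Wm g₁) = θ T g₁ g₂ H
  left : ∀ (T : Type u) [CommRing T] (g₁ g₂ : S →+* T)
    (H : g₁.comp (algebraMap R S) = g₂.comp (algebraMap R S)),
    e.map (Wm g₂) * θ T g₁ g₂ H = θ T g₁ g₂ H
  self : ∀ (T : Type u) [CommRing T] (g : S →+* T), θ T g g rfl = e.map (Wm g)
  comp : ∀ (T : Type u) [CommRing T] (g₁ g₂ g₃ : S →+* T)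
    (H : g₁.comp (algebraMap R S) = g₂.comp (algebraMap R S))
    (H' : g₂.comp (algebraMap R S) = g₃.comp (algebraMap R S)),
    θ T g₂ g₃ H' * θ T g₁ g₂ H = θ T g₁ g₃ (H.trans H')

variable {p n R S}

/-- The matrix of `j`-th components. -/
def cf {a b : Type} {T : Type u} {j : ℕ} (hj : j < n) (M : Matrix a b (W T)) : Matrix a b T :=
  M.map (fun z => z.coeff ⟨j, hj⟩)

/-- All entries have vanishing first `j` components. -/
def LowM {a b : Type} {T : Type u} [CommRing T] (j : ℕ) (M : Matrix a b (W T)) : Prop :=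
  ∀ x y, Low j (M x y)

variable {a b c : Type} [Fintype b] {T : Type u} [CommRing T] {j : ℕ}

theorem LowM.mul_left (hj : j ≤ n) (X : Matrix a b (W T)) {M : Matrix b c (W T)} (h : LowM j M) :
    LowM j (X * M) := fun x y => by
  rw [Matrix.mul_apply]
  exact Low.sum hj _ fun i _ => (h i y).mul_left hj _

theorem LowM.add {M N : Matrix a c (W T)} (hj : j ≤ n) (h : LowM j M) (h' : LowM j N) :
    LowM j (M + N) := fun x y => (h x y).add hj (h' x y)

theorem LowM.sub {M N : Matrix a c (W T)} (hj : j ≤ n) (h : LowM j M) (h' : LowM j N) :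
    LowM j (M - N) := fun x y => (h x y).sub hj (h' x y)

theorem cf_add {M N : Matrix a c (W T)} (hj : j < n) (h : LowM j M) (h' : LowM j N) :
    cf hj (M + N) = cf hj M + cf hj N :=
  Matrix.ext fun x y => coeff_add_low hj (h x y) (h' x y)

theorem cf_sub {M N : Matrix a c (W T)} (hj : j < n) (h : LowM j M) (h' : LowM j N) :
    cf hj (M - N) = cf hj M - cf hj N := by
  rw [eq_sub_iff_add_eq, ← cf_add hj (h.sub hj.le h') h', sub_add_cancel]

theorem cf_zero (hj : j < n) : cf hj (0 : Matrix a c (W T)) = 0 :=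
  Matrix.ext fun _ _ => TruncatedWittVector.coeff_zero p n T _

theorem cf_mul (hj : j < n) (X : Matrix a b (W T)) {M : Matrix b c (W T)} (h : LowM j M) :
    cf hj (X * M) = X.map (gh hj T) * cf hj M := by
  classical
  ext x y
  simp only [cf, Matrix.map_apply, Matrix.mul_apply]
  induction (Finset.univ : Finset b) using Finset.induction with
  | empty => simp
  | insert i s his ih =>
    rw [Finset.sum_insert his, Finset.sum_insert his,
      coeff_add_low hj ((h i y).mul_left hj.le _) (Low.sum hj.le _ fun k _ => (h k y).mul_left hj.le _),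
      coeff_mul_low hj _ (h i y), ih]

theorem cf_map {T' : Type u} [CommRing T'] (f : T →+* T') (hj : j < n) (M : Matrix a c (W T)) :
    cf hj (M.map (Wm f)) = (cf hj M).map f :=
  Matrix.ext fun _ _ => WittGrp.coeff_truncMap p n f _ _

namespace WDatum

variable {ι : Type} [Fintype ι] [DecidableEq ι] (D : WDatum p n R S ι)

/-- The `j`-th ghost datum. -/
noncomputable def ghost {j : ℕ} (hj : j < n) : Datum R S ι where
  e := D.e.map (gh hj S)
  θ T _ g₁ g₂ H := (D.θ T g₁ g₂ H).map (gh hj T)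
  natural T T' _ _ h g₁ g₂ H H' := by
    rw [D.natural T T' h g₁ g₂ H H']
    ext x y
    exact gh_natural hj h _
  idem := by rw [← Matrix.map_mul, D.idem]
  right T _ g₁ g₂ H := by
    conv_rhs => rw [← D.right T g₁ g₂ H, Matrix.map_mul]
    congr 1
    ext x y
    exact (gh_natural hj g₁ _).symm
  left T _ g₁ g₂ H := by
    conv_rhs => rw [← D.left T g₁ g₂ H, Matrix.map_mul]
    congr 1
    ext x y
    exact (gh_natural hj g₂ _).symm
  self T _ g := by
    rw [D.self]
    ext x y
    exact gh_natural hj g _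
  comp T _ g₁ g₂ g₃ H H' := by rw [← Matrix.map_mul, D.comp T g₁ g₂ g₃ H H']

variable {κ : Type}

/-- The failure of a matrix of vectors to be fixed. -/
noncomputable def diff (v : Matrix ι κ (W S)) (T : Type u) [CommRing T] (g₁ g₂ : S →+* T)
    (H : g₁.comp (algebraMap R S) = g₂.comp (algebraMap R S)) : Matrix ι κ (W T) :=
  D.θ T g₁ g₂ H * v.map (Wm g₁) - v.map (Wm g₂)

theorem diff_map (v : Matrix ι κ (W S)) (T T' : Type u) [CommRing T] [CommRing T'] (h : T →+* T')
    (g₁ g₂ : S →+* T) (H : g₁.comp (algebraMap R S) = g₂.comp (algebraMap R S))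
    (H' : (h.comp g₁).comp (algebraMap R S) = (h.comp g₂).comp (algebraMap R S)) :
    D.diff v T' (h.comp g₁) (h.comp g₂) H' = (D.diff v T g₁ g₂ H).map (Wm h) := by
  have hv : ∀ g : S →+* T, v.map (Wm (h.comp g)) = (v.map (Wm g)).map (Wm h) := fun g => by
    ext x y
    simp [WittGrp.truncMap_comp]
  rw [diff, diff, D.natural T T' h g₁ g₂ H H', hv, hv, ← Matrix.map_mul, Matrix.map_sub]
  exact map_sub _

variable [Fintype κ] [DecidableEq κ]

/-- One step of the successive approximation. -/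
theorem exists_step [Module.FaithfullyFlat R S] {j : ℕ} (hj : j < n) (h1 : 1 ≤ j)
    (v : Matrix ι κ (W S)) (hv : D.e * v = v)
    (hlow : ∀ (T : Type u) [CommRing T] (g₁ g₂ : S →+* T)
      (H : g₁.comp (algebraMap R S) = g₂.comp (algebraMap R S)), LowM j (D.diff v T g₁ g₂ H)) :
    ∃ v' : Matrix ι κ (W S), D.e * v' = v' ∧
      v'.map (gh (show 0 < n by omega) S) = v.map (gh (show 0 < n by omega) S) ∧
      ∀ (T : Type u) [CommRing T] (g₁ g₂ : S →+* T)
        (H : g₁.comp (algebraMap R S) = g₂.comp (algebraMap R S)),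
        LowM (j + 1) (D.diff v' T g₁ g₂ H) := by
  obtain ⟨y, hy, hy'⟩ := (D.ghost hj).exists_coboundary
    (fun T _ g₁ g₂ H => cf hj (D.diff v T g₁ g₂ H))
    (fun T T' _ _ h g₁ g₂ H H' => by
      show cf hj _ = _
      rw [D.diff_map v T T' h g₁ g₂ H H', cf_map])
    (fun T _ g₁ g₂ H => by
      have he : (D.ghost hj).e.map g₂ = (D.e.map (Wm g₂)).map (gh hj T) := by
        ext x y
        exact (gh_natural hj g₂ _).symm
      rw [he, ← cf_mul hj _ (hlow T g₁ g₂ H)]
      congr 1
      rw [diff, Matrix.mul_sub, ← Matrix.mul_assoc, D.left, ← Matrix.map_mul, hv])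
    (fun T _ g => by
      show cf hj _ = _
      rw [diff, D.self, ← Matrix.map_mul, hv, sub_self, cf_zero])
    (fun T _ g₁ g₂ g₃ H H' => by
      show (D.θ T g₂ g₃ H').map (gh hj T) * cf hj _ + cf hj _ = cf hj _
      rw [← cf_mul hj _ (hlow T g₁ g₂ H),
        ← cf_add hj (LowM.mul_left hj.le _ (hlow T g₁ g₂ H)) (hlow T g₂ g₃ H')]
      congr 1
      rw [diff, diff, diff, Matrix.mul_sub, ← Matrix.mul_assoc, D.comp T g₁ g₂ g₃ H H']
      abel)
  let d : Matrix ι κ (W S) := D.e * y.map (single j)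
  have hd : LowM j d := LowM.mul_left hj.le _ fun x z => low_single j _
  have hdc : cf hj d = y := by
    show cf hj (D.e * y.map (single j)) = y
    rw [cf_mul hj _ (show LowM j (y.map (single j) : Matrix ι κ (W S)) from fun x z => low_single j _)]
    conv_rhs => rw [← hy]
    congr 1
    ext x z
    exact coeff_single (p := p) hj _
  refine ⟨v + d, ?_, ?_, ?_⟩
  · rw [Matrix.mul_add, hv, ← Matrix.mul_assoc, D.idem]
  · ext x z
    have hz := gh_zero (show 0 < n by omega) (d x z)
    rw [hd x z ⟨0, by omega⟩ (by simp; omega)] at hz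
    simp [hz]
  · intro T _ g₁ g₂ H
    have hadd : ∀ g : S →+* T, (v + d).map (Wm g) = v.map (Wm g) + d.map (Wm g) := fun g =>
      Matrix.map_add _ (map_add (Wm g)) v d
    have hdg : ∀ g : S →+* T, LowM j (d.map (Wm g)) := fun g x z => (hd x z).map g
    have hsum : D.diff (v + d) T g₁ g₂ H =
        D.diff v T g₁ g₂ H + (D.θ T g₁ g₂ H * d.map (Wm g₁) - d.map (Wm g₂)) := by
      rw [diff, diff, hadd, hadd, Matrix.mul_add]
      abel
    have h2 : LowM j (D.θ T g₁ g₂ H * d.map (Wm g₁) - d.map (Wm g₂)) :=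
      (LowM.mul_left hj.le _ (hdg g₁)).sub hj.le (hdg g₂)
    have h3 : cf hj (D.diff (v + d) T g₁ g₂ H) = 0 := by
      rw [hsum, cf_add hj (hlow T g₁ g₂ H) h2,
        cf_sub hj (LowM.mul_left hj.le _ (hdg g₁)) (hdg g₂), cf_mul hj _ (hdg g₁), cf_map, cf_map,
        hdc, ← hy' T g₁ g₂ H]
      show cf hj _ + ((D.θ T g₁ g₂ H).map (gh hj T) * y.map g₁ -
        ((D.θ T g₁ g₂ H).map (gh hj T) * y.map g₁ + cf hj _)) = 0
      abel
    intro x z
    refine Low.succ hj ?_ (congrFun (congrFun h3 x) z)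
    rw [hsum]
    exact (hlow T g₁ g₂ H).add hj.le h2 x z

/-- Effectivity of descent over truncated Witt vectors. -/
theorem exists_effective [Module.FaithfullyFlat R S] (hp : IsNilpotent (p : R)) :
    ∃ (s : ℕ) (F : Matrix (Fin s) (Fin s) (W R)) (V : Matrix ι (Fin s) (W S))
      (U : Matrix (Fin s) ι (W S)),
      F * F = F ∧ V * U = D.e ∧ U * V = F.map (Wm (algebraMap R S)) ∧ D.e * V = V ∧
      ∀ (T : Type u) [CommRing T] (g₁ g₂ : S →+* T)
        (H : g₁.comp (algebraMap R S) = g₂.comp (algebraMap R S)),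
        D.θ T g₁ g₂ H * V.map (Wm g₁) = V.map (Wm g₂) := by
  obtain rfl | h0 := Nat.eq_zero_or_pos n
  · have hW : ∀ (T : Type u) [CommRing T], Subsingleton (TruncatedWittVector p 0 T) := fun T _ =>
      ⟨fun x y => TruncatedWittVector.ext fun i => i.elim0⟩
    refine ⟨0, 0, 0, 0, Subsingleton.elim _ _, ?_, Subsingleton.elim _ _, ?_, fun T _ g₁ g₂ H => ?_⟩
    all_goals exact Matrix.ext fun x y => @Subsingleton.elim _ (hW _) _ _
  have hpS : IsNilpotent (p : S) := by simpa using hp.map (algebraMap R S)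
  obtain ⟨s, f, v₀, u₀, hf, hvu, huv, hev, hfix⟩ := (D.ghost h0).exists_effective
  have hsingle : ∀ {a b : Type} (T : Type u) [CommRing T] (M : Matrix a b T),
      (M.map (single 0) : Matrix a b (W T)).map (gh h0 T) = M := by
    intro a b T _ M
    ext x y
    simp only [Matrix.map_apply, gh_zero h0, coeff_single h0]
  have key : ∀ j, 1 ≤ j → j ≤ n → ∃ v : Matrix ι (Fin s) (W S), D.e * v = v ∧
      v.map (gh h0 S) = v₀ ∧
      ∀ (T : Type u) [CommRing T] (g₁ g₂ : S →+* T)
        (H : g₁.comp (algebraMap R S) = g₂.comp (algebraMap R S)), LowM j (D.diff v T g₁ g₂ H) := by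
    intro j hj1
    induction j, hj1 using Nat.le_induction with
    | base =>
      intro _
      refine ⟨D.e * v₀.map (single 0), by rw [← Matrix.mul_assoc, D.idem], ?_, ?_⟩
      · rw [Matrix.map_mul, hsingle]
        exact hev
      · intro T _ g₁ g₂ H x y
        refine Low.succ (j := 0) h0 (Low.zero_left _) ?_
        rw [← gh_zero h0]
        have hv : ∀ g : S →+* T, ((D.e * v₀.map (single 0)).map (Wm g)).map (gh h0 T) =
            v₀.map g := by
          intro g
          conv_rhs => rw [← hev, ← hsingle S v₀]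
          ext x y
          simp only [Matrix.map_apply, gh_natural]
          congr 1
          rw [← Matrix.map_apply (f := gh h0 S), Matrix.map_mul, hsingle S v₀]
          rfl
        have h := congrFun (congrFun (hfix T g₁ g₂ H) x) y
        rw [← hv g₁, ← hv g₂] at h
        change (((D.θ T g₁ g₂ H).map (gh h0 T) *
          ((D.e * v₀.map (single 0)).map (Wm g₁)).map (gh h0 T) : Matrix ι (Fin s) T)) x y = _ at h
        rw [← Matrix.map_mul] at h
        simp only [diff, Matrix.sub_apply, map_sub]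
        exact sub_eq_zero.2 h
    | succ j hj1 ih =>
      intro hjn
      obtain ⟨v, hv, hv0, hlow⟩ := ih (by omega)
      obtain ⟨v', hv', hv0', hlow'⟩ := D.exists_step (show j < n by omega) hj1 v hv hlow
      exact ⟨v', hv', hv0'.trans hv0, hlow'⟩
  obtain ⟨v, hv, hv0, hlow⟩ := key n h0 le_rfl
  have hnil : ∀ {a : Type} [Fintype a] [DecidableEq a] {T : Type u} [CommRing T]
      (_ : IsNilpotent (p : T)) (M : Matrix a a (W T)), M.map (gh h0 T) = 0 → IsNilpotent M := by
    intro a _ _ T _ hT M hM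
    refine isNilpotent_matrix M fun i k => isNilpotent_of_coeff_zero hT h0 ?_
    rw [← gh_zero h0]
    exact congrFun (congrFun hM i) k
  obtain ⟨F, hF, hFf⟩ := exists_isIdempotentElem_eq_of_ker_isNilpotent
    ((gh h0 R).mapMatrix : Matrix (Fin s) (Fin s) (W R) →+* _)
    (fun x hx => hnil hp x hx) f ⟨f.map (single 0), hsingle R f⟩ hf
  change F.map (gh h0 R) = f at hFf
  let F' : Matrix (Fin s) (Fin s) (W S) := F.map (Wm (algebraMap R S))
  have hF' : F' * F' = F' := by rw [← Matrix.map_mul, hF.eq]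
  have hF'0 : F'.map (gh h0 S) = f.map (algebraMap R S) := by
    rw [← hFf]
    ext x y
    exact gh_natural h0 _ _
  have hfixv : ∀ (T : Type u) [CommRing T] (g₁ g₂ : S →+* T)
      (H : g₁.comp (algebraMap R S) = g₂.comp (algebraMap R S)),
      D.θ T g₁ g₂ H * (v * F').map (Wm g₁) = (v * F').map (Wm g₂) := by
    intro T _ g₁ g₂ H
    have hF12 : F'.map (Wm g₁) = F'.map (Wm g₂) := by
      refine Matrix.ext fun x y => ?_
      show Wm g₁ (Wm (algebraMap R S) (F x y)) = Wm g₂ (Wm (algebraMap R S) (F x y))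
      rw [← RingHom.comp_apply, ← RingHom.comp_apply, ← WittGrp.truncMap_comp,
        ← WittGrp.truncMap_comp, H]
    have h : D.θ T g₁ g₂ H * v.map (Wm g₁) = v.map (Wm g₂) :=
      sub_eq_zero.1 (Matrix.ext fun x y => (hlow T g₁ g₂ H x y).eq_zero)
    rw [Matrix.map_mul, Matrix.map_mul, ← Matrix.mul_assoc, h, hF12]
  let V := v * F'
  have hV0 : V.map (gh h0 S) = v₀ := by
    rw [Matrix.map_mul, hv0, hF'0, ← huv, ← Matrix.mul_assoc, hvu]
    exact hev
  have heV : D.e * V = V := by rw [← Matrix.mul_assoc, hv]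
  have hVF : V * F' = V := by rw [Matrix.mul_assoc, hF']
  let u' : Matrix (Fin s) ι (W S) := F' * u₀.map (single 0) * D.e
  let A := V * u'
  have heA : D.e * A = A := by rw [← Matrix.mul_assoc, heV]
  have hAe : A * D.e = A := by
    show V * (F' * u₀.map (single 0) * D.e) * D.e = V * (F' * u₀.map (single 0) * D.e)
    simp only [Matrix.mul_assoc, D.idem]
  have hidem0 : D.e.map (gh h0 S) * D.e.map (gh h0 S) = D.e.map (gh h0 S) :=
    (D.ghost h0).idem
  have hvu' : v₀ * u₀ = D.e.map (gh h0 S) := hvu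
  have hev' : D.e.map (gh h0 S) * v₀ = v₀ := hev
  have hA0 : A.map (gh h0 S) = D.e.map (gh h0 S) := by
    rw [Matrix.map_mul, hV0, Matrix.map_mul, Matrix.map_mul, hF'0, hsingle S u₀, ← huv,
      ← Matrix.mul_assoc, ← Matrix.mul_assoc, ← Matrix.mul_assoc, hvu', hev', hvu', hidem0]
  have hN0 : (A - D.e).map (gh h0 S) = 0 := by
    rw [Matrix.map_sub _ (map_sub (gh h0 S)), hA0, sub_self]
  obtain ⟨w, hw⟩ := (hnil hpS _ hN0).isUnit_one_add
  have hw0 : ((↑w⁻¹ : Matrix ι ι (W S))).map (gh h0 S) = 1 := by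
    have h := congrArg (fun M : Matrix ι ι (W S) => M.map (gh h0 S)) (Units.mul_inv w)
    rw [hw, Matrix.map_mul, Matrix.map_add _ (map_add (gh h0 S)), hN0, add_zero,
      Matrix.map_one _ (map_zero (gh h0 S)) (map_one (gh h0 S)), one_mul] at h
    exact h
  have hAw : A * (↑w⁻¹ : Matrix ι ι (W S)) = D.e := by
    have hA : A = D.e * (↑w : Matrix ι ι (W S)) := by
      rw [hw, Matrix.mul_add, Matrix.mul_one, Matrix.mul_sub, heA, D.idem, add_sub_cancel]
    rw [hA, Matrix.mul_assoc, Units.mul_inv, Matrix.mul_one]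
  let U : Matrix (Fin s) ι (W S) := u' * (↑w⁻¹ : Matrix ι ι (W S)) * D.e
  have hVU : V * U = D.e := by
    rw [← Matrix.mul_assoc, ← Matrix.mul_assoc, hAw, D.idem]
  refine ⟨s, F, V, U, hF.eq, hVU, ?_, heV, hfixv⟩
  have hFG : F' * (U * V) = U * V := by
    show F' * ((F' * u₀.map (single 0) * D.e) * (↑w⁻¹ : Matrix ι ι (W S)) * D.e * V) = _
    simp only [← Matrix.mul_assoc, hF']
    rfl
  have hGF : U * V * F' = U * V := by rw [Matrix.mul_assoc, hVF]
  have hGG : U * V * (U * V) = U * V := by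
    rw [Matrix.mul_assoc, ← Matrix.mul_assoc V, hVU, heV]
  have hG0 : (U * V).map (gh h0 S) = f.map (algebraMap R S) := by
    have hff : u₀ * v₀ * (u₀ * v₀) = u₀ * v₀ := by rw [huv, ← Matrix.map_mul, hf]
    rw [Matrix.map_mul, hV0, Matrix.map_mul, Matrix.map_mul, hw0, Matrix.mul_one, Matrix.map_mul,
      Matrix.map_mul, hF'0, hsingle S u₀, ← huv]
    simp only [Matrix.mul_assoc] at hff ⊢
    rw [hev', hev']
    exact hff
  have hidem : IsIdempotentElem (F' - U * V) := by
    show (F' - U * V) * (F' - U * V) = F' - U * V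
    rw [Matrix.sub_mul, Matrix.mul_sub, Matrix.mul_sub, hF', hFG, hGF, hGG]
    abel
  have h0' : (F' - U * V).map (gh h0 S) = 0 := by
    rw [Matrix.map_sub _ (map_sub (gh h0 S)), hF'0, hG0, sub_self]
  obtain ⟨k, hk⟩ := hnil hpS _ h0'
  have h00 : F' - U * V = 0 := by
    have h := hidem.pow_succ_eq k
    rw [pow_succ, hk, zero_mul] at h
    exact h.symm
  exact (sub_eq_zero.1 h00).symm

end WDatum

end Groth.Agent.H8Props.WittDesc
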