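import Groth.Agent.H8Props.WittDesc.Gluing

/-!
# Effectivity of descent for projective modules over truncated Witt vectors
-/

set_option autoImplicit false
set_option linter.unusedSectionVars false
set_option backward.isDefEq.respectTransparency false
universe v u

open CategoryTheory ModuleCat Opposite Matrix
open scoped ChangeOfRings
open Groth.Agent.H3CAlg.WittDescent (pure smul_pure pure_smul mapComp'_hom_pure mapComp'_inv_pure)

namespace Groth.Agent.H8Props.WittDesc

section Image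

variable {A B : Type u} [CommRing A] [CommRing B] (f : A →+* B) {N : ModuleCat.{u} B} {r s : ℕ}
  (π : (Fin r → B) →ₗ[B] N) (ι : N →ₗ[B] (Fin r → B))
  (F : Matrix (Fin s) (Fin s) A) (V : Matrix (Fin r) (Fin s) B) (U : Matrix (Fin s) (Fin r) B)

/-- The image of an idempotent matrix. -/
noncomputable abbrev img : ModuleCat.{u} A := ModuleCat.of A (LinearMap.range F.mulVecLin)

theorem img_fixed (hF : F * F = F) (m : img F) : F *ᵥ m.1 = m.1 := by
  obtain ⟨_, x, rfl⟩ := m
  simp [Matrix.mulVec_mulVec, hF]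

theorem img_projective (hF : F * F = F) : Module.Projective A (img F) := by
  refine Module.Projective.of_split (LinearMap.range F.mulVecLin).subtype
    F.mulVecLin.rangeRestrict ?_
  exact LinearMap.ext fun m => Subtype.ext (img_fixed F hF m)

theorem img_finite : Module.Finite A (img F) :=
  Module.Finite.of_surjective F.mulVecLin.rangeRestrict (LinearMap.surjective_rangeRestrict _)

/-- The comparison map on generators. -/
noncomputable def imgHom : img F →+ N where
  toFun m := π (V *ᵥ (f ∘ m.1))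
  map_zero' := by
    show π (V *ᵥ (f ∘ (0 : Fin s → A))) = 0
    rw [show (f ∘ (0 : Fin s → A)) = 0 from funext fun _ => map_zero f, Matrix.mulVec_zero, map_zero]
  map_add' m m' := by
    show π (V *ᵥ (f ∘ (m.1 + m'.1))) = _
    rw [show (f ∘ (m.1 + m'.1)) = f ∘ m.1 + f ∘ m'.1 from funext fun _ => map_add f _ _,
      Matrix.mulVec_add, map_add]

theorem imgHom_apply (m : img F) : imgHom f π F V m = π (V *ᵥ (f ∘ m.1)) := rfl

theorem imgHom_smul (a : A) (m : img F) : imgHom f π F V (a • m) = f a • imgHom f π F V m := by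
  show π (V *ᵥ (f ∘ (a • m.1))) = f a • π (V *ᵥ (f ∘ m.1))
  rw [show (f ∘ (a • m.1)) = f a • (f ∘ m.1) from funext fun _ => map_mul f _ _,
    Matrix.mulVec_smul, map_smul]

/-- The comparison map. -/
noncomputable def imgMap : (extendScalars f).obj (img F) ⟶ N :=
  lift f (img F) N (imgHom f π F V) (imgHom_smul f π F V)

theorem imgMap_gen (m : img F) : imgMap f π F V (pure f (img F) 1 m) = π (V *ᵥ (f ∘ m.1)) :=
  lift_gen f (img F) N (imgHom f π F V) (imgHom_smul f π F V) m

theorem coord_imgMap (hπι : ∀ m, π (ι m) = m) (heV : LinearMap.toMatrix' (ι ∘ₗ π) * V = V)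
    (m : img F) : ι (imgMap f π F V (pure f (img F) 1 m)) = V *ᵥ (f ∘ m.1) := by
  rw [imgMap_gen]
  show (ι ∘ₗ π) (V *ᵥ (f ∘ m.1)) = _
  rw [← LinearMap.toMatrix'_mulVec (ι ∘ₗ π), Matrix.mulVec_mulVec, heV]

theorem imgMap_isIso (hπι : ∀ m, π (ι m) = m) (hF : F * F = F)
    (hVU : V * U = LinearMap.toMatrix' (ι ∘ₗ π)) (hUV : U * V = F.map f)
    (heV : LinearMap.toMatrix' (ι ∘ₗ π) * V = V) :
    IsIso (imgMap f π F V) := by
  let δk : Fin s → img F := fun k => F.mulVecLin.rangeRestrict (Pi.single k 1)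
  let Λ' : N →ₗ[B] (extendScalars f).obj (img F) :=
    (Fintype.linearCombination B fun k => pure f (img F) 1 (δk k)) ∘ₗ U.mulVecLin ∘ₗ ι
  have hΛ' : ∀ m', Λ' m' = ∑ k, (U *ᵥ ι m') k • pure f (img F) 1 (δk k) := fun m' => by
    simp [Λ', Fintype.linearCombination_apply]
  have hVF : V * F.map f = V := by
    rw [← hUV, ← Matrix.mul_assoc, hVU, heV]
  have h1 : ∀ m', imgMap f π F V (Λ' m') = m' := by
    intro m'
    rw [hΛ', map_sum]
    have hk : ∀ k, imgMap f π F V (pure f (img F) 1 (δk k)) =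
        π ((V * F.map f) *ᵥ (Pi.single k 1 : Fin s → B)) := by
      intro k
      rw [imgMap_gen]
      show π (V *ᵥ (f ∘ (F *ᵥ Pi.single k 1))) = _
      rw [← Matrix.mulVec_mulVec]
      congr 2
      funext l
      rw [Function.comp_apply, RingHom.map_mulVec]
      congr 2
      funext i
      simp only [Function.comp_apply, Pi.single_apply]
      split <;> simp
    simp only [map_smul, hk, hVF]
    simp only [← map_smul, ← map_sum, ← Matrix.mulVec_smul, ← Matrix.mulVec_sum]
    rw [← pi_eq_sum_univ' (U *ᵥ ι m'), Matrix.mulVec_mulVec, hVU, LinearMap.toMatrix'_mulVec]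
    simp [hπι]
  have h2 : ∀ m, Λ' (imgMap f π F V (pure f (img F) 1 m)) = pure f (img F) 1 m := by
    intro m
    rw [hΛ', coord_imgMap f π ι F V hπι heV, Matrix.mulVec_mulVec, hUV]
    simp only [← RingHom.map_mulVec, img_fixed F hF, ← pure_one_smul, ← pure_sum]
    congr 1
    simp only [δk, ← map_smul, ← map_sum]
    rw [← pi_eq_sum_univ' m.1]
    exact Subtype.ext (img_fixed F hF m)
  refine ⟨ModuleCat.ofHom Λ', ?_, ?_⟩
  · apply ExtendScalars.hom_ext
    exact h2
  · exact ModuleCat.hom_ext (LinearMap.ext h1)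

end Image

variable {p : ℕ} [hp : Fact p.Prime] {n : ℕ}

local notation "W" => TruncatedWittVector p n
local notation "Wm" => WittGrp.truncMap p n

variable {R R' : Type u} [CommRing R] [CommRing R'] [Algebra R R']
  (D : (W4c3truncdispsmooth.wittModPF.{u} p n).DescentData
    (fun _ : PUnit.{u + 1} => (CommRingCat.ofHom (algebraMap R R')).op))
  {r s : ℕ}
  (π : (Fin r → TruncatedWittVector p n R') →ₗ[TruncatedWittVector p n R']
    W4c3truncdispsmooth.descObj D)
  (ι : W4c3truncdispsmooth.descObj D →ₗ[TruncatedWittVector p n R']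
    (Fin r → TruncatedWittVector p n R'))
  (F : Matrix (Fin s) (Fin s) (TruncatedWittVector p n R))
  (V : Matrix (Fin r) (Fin s) (TruncatedWittVector p n R'))

theorem Φ_imgMap (hπι : ∀ m, π (ι m) = m) (heV : LinearMap.toMatrix' (ι ∘ₗ π) * V = V)
    {T : Type u} [CommRing T] (g₁ g₂ : R' →+* T)
    (H : g₁.comp (algebraMap R R') = g₂.comp (algebraMap R R'))
    (hfix : mat D π ι T g₁ g₂ H * V.map (Wm g₁) = V.map (Wm g₂)) (m : img F) :
    Φ D T g₁ g₂ H (pure (Wm g₁) (W4c3truncdispsmooth.descObj (R' := R') D) 1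
        (imgMap (Wm (algebraMap R R')) π F V (pure (Wm (algebraMap R R')) (img F) 1 m))) =
      pure (Wm g₂) (W4c3truncdispsmooth.descObj (R' := R') D) 1
        (imgMap (Wm (algebraMap R R')) π F V (pure (Wm (algebraMap R R')) (img F) 1 m)) := by
  apply co_injective D π ι hπι g₂
  have h := mat_mulVec_co D π ι hπι T g₁ g₂ H (pure (Wm g₁) _ 1
    (imgMap (Wm (algebraMap R R')) π F V (pure (Wm (algebraMap R R')) (img F) 1 m)))
  refine h.symm.trans ?_
  rw [co_gen D ι g₁, co_gen D ι g₂]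
  have hιφ := coord_imgMap (Wm (algebraMap R R')) π ι F V hπι heV m
  have hm : (Wm g₁) ∘ ((Wm (algebraMap R R')) ∘ m.1) = (Wm g₂) ∘ ((Wm (algebraMap R R')) ∘ m.1) := by
    funext k
    show Wm g₁ (Wm (algebraMap R R') _) = Wm g₂ (Wm (algebraMap R R') _)
    rw [← RingHom.comp_apply, ← RingHom.comp_apply, ← WittGrp.truncMap_comp,
      ← WittGrp.truncMap_comp, H]
  have hmap : ∀ g : R' →+* T, (Wm g) ∘ (V *ᵥ ((Wm (algebraMap R R')) ∘ m.1)) =
      V.map (Wm g) *ᵥ ((Wm g) ∘ ((Wm (algebraMap R R')) ∘ m.1)) :=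
    fun g => funext (RingHom.map_mulVec (Wm g) V _)
  rw [hιφ, hmap, hmap, Matrix.mulVec_mulVec, hfix, hm]

/-- The pseudofunctor before forgetting its definition. -/
noncomputable abbrev Hf (p : ℕ) [Fact p.Prime] (n : ℕ) : (CommRingCat.{u}ᵒᵖ)ᵒᵖ ⥤ CommRingCat.{u} :=
  unopUnop CommRingCat.{u} ⋙ W4c3truncdispsmooth.wittTrunc p n

theorem fixesGen_imgMap (hπι : ∀ m, π (ι m) = m) (heV : LinearMap.toMatrix' (ι ∘ₗ π) * V = V)
    (hfix : ∀ (T : Type u) [CommRing T] (g₁ g₂ : R' →+* T)
      (H : g₁.comp (algebraMap R R') = g₂.comp (algebraMap R R')),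
      mat D π ι T g₁ g₂ H * V.map (Wm g₁) = V.map (Wm g₂)) (m : img F) :
    FixesGen (Hf p n) (cov R R') D
      (imgMap (Wm (algebraMap R R')) π F V (pure (Wm (algebraMap R R')) (img F) 1 m)) := by
  rintro ⟨⟨T, hT⟩⟩ f₁ f₂ h₂ φ rfl
  obtain ⟨⟨g₁⟩, rfl⟩ : ∃ h, f₁ = Quiver.Hom.op h := ⟨f₁.unop, rfl⟩
  obtain ⟨⟨g₂⟩, rfl⟩ : ∃ h, f₂ = Quiver.Hom.op h := ⟨f₂.unop, rfl⟩
  have H : g₁.comp (algebraMap R R') = g₂.comp (algebraMap R R') :=
    (congrArg (fun k => k.unop.hom) h₂).symm
  exact Φ_imgMap D π ι F V hπι heV g₁ g₂ H (hfix _ _ _ H) m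

/-- Effectivity of descent of finitely generated projective modules over truncated Witt vectors. -/
theorem exists_descended [Module.FaithfullyFlat R R'] (hp' : IsNilpotent (p : R))
    [Module.Finite (TruncatedWittVector p n R') (W4c3truncdispsmooth.descObj D)]
    [Module.Projective (TruncatedWittVector p n R') (W4c3truncdispsmooth.descObj D)] :
    ∃ M : ModuleCat.{u} (W R),
      Module.Finite (W R) M ∧ Module.Projective (W R) M ∧
        Nonempty (((W4c3truncdispsmooth.wittModPF.{u} p n).toDescentData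
          (fun _ : PUnit.{u + 1} => (CommRingCat.ofHom (algebraMap R R')).op)).obj M ≅ D) := by
  obtain ⟨r, π, hπ⟩ := Module.Finite.exists_fin' (W R') (W4c3truncdispsmooth.descObj D)
  obtain ⟨ι, hι⟩ := Module.projective_lifting_property π LinearMap.id hπ
  have hπι : ∀ m, π (ι m) = m := LinearMap.congr_fun hι
  obtain ⟨s, F, V, U, hF, hVU, hUV, heV, hfix⟩ := (wdatum D π ι hπι).exists_effective hp'
  refine ⟨img F, img_finite F, img_projective F hF, ?_⟩
  haveI := imgMap_isIso (Wm (algebraMap R R')) π ι F V U hπι hF hVU hUV heV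
  exact nonempty_iso_of_gen (Hf p n) (cov R R') D (img F)
    (asIso (imgMap (Wm (algebraMap R R')) π F V))
    (fun m => fixesGen_imgMap D π ι F V hπι heV hfix m)

end Groth.Agent.H8Props.WittDesc
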