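import Groth.Agent.H8Props.WittDesc.Lift
import Groth.Agent.H3CAlg.WittDescent

/-!
# From descent data to matrices
-/

set_option autoImplicit false
set_option linter.unusedSectionVars false
set_option backward.isDefEq.respectTransparency false
universe v u

open CategoryTheory ModuleCat Opposite Matrix
open scoped ChangeOfRings
open Groth.Agent.H3CAlg.WittDescent (pure smul_pure pure_smul mapComp'_hom_pure mapComp'_inv_pure)

namespace Groth.Agent.H8Props.WittDesc

section ExtendScalars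

variable {A B C : Type u} [CommRing A] [CommRing B] [CommRing C] (f : A →+* B) (M : ModuleCat.{u} A)

theorem pure_add (m m' : M) : pure f M 1 (m + m') = pure f M 1 m + pure f M 1 m' :=
  TensorProduct.tmul_add _ _ _

theorem pure_zero : pure f M 1 0 = 0 :=
  TensorProduct.tmul_zero _ _

theorem pure_one_smul (r : A) (m : M) : pure f M 1 (r • m) = f r • pure f M 1 m := by
  rw [pure_smul, smul_pure]

theorem pure_eq_smul (s : B) (m : M) : pure f M s m = s • pure f M 1 m := by
  rw [smul_pure, mul_one]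

theorem pure_sum {κ : Type*} (s : Finset κ) (m : κ → M) :
    pure f M 1 (∑ k ∈ s, m k) = ∑ k ∈ s, pure f M 1 (m k) :=
  TensorProduct.tmul_sum _ _ _

theorem pure_induction {P : (extendScalars f).obj M → Prop} (h0 : P 0)
    (hadd : ∀ x y, P x → P y → P (x + y)) (h : ∀ (s : B) (m : M), P (s • pure f M 1 m))
    (x : (extendScalars f).obj M) : P x := by
  induction x using TensorProduct.induction_on with
  | zero => exact h0
  | add x y hx hy => exact hadd x y hx hy
  | tmul s m =>
    show P (pure f M s m)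
    rw [pure_eq_smul]
    exact h s m

/-- A semilinear map as a map out of the extension of scalars. -/
noncomputable def lift (N : ModuleCat.{u} B) (φ : M →+ N) (hφ : ∀ (r : A) (m : M), φ (r • m) = f r • φ m) :
    (extendScalars f).obj M ⟶ N :=
  ((extendRestrictScalarsAdj f).homEquiv M N).symm
    (ModuleCat.ofHom (Y := (restrictScalars f).obj N)
      { toFun := φ
        map_add' := map_add φ
        map_smul' := hφ })

theorem lift_pure (N : ModuleCat.{u} B) (φ : M →+ N) (hφ : ∀ (r : A) (m : M), φ (r • m) = f r • φ m)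
    (s : B) (m : M) : lift f M N φ hφ (pure f M s m) = s • φ m :=
  rfl

theorem lift_gen (N : ModuleCat.{u} B) (φ : M →+ N) (hφ : ∀ (r : A) (m : M), φ (r • m) = f r • φ m)
    (m : M) : lift f M N φ hφ (pure f M 1 m) = φ m := by
  rw [lift_pure, one_smul]

theorem hom_ext₂ (g : B →+* C) {N : ModuleCat.{u} C}
    {α β : (extendScalars g).obj ((extendScalars f).obj M) ⟶ N}
    (h : ∀ m, α (pure g _ 1 (pure f M 1 m)) = β (pure g _ 1 (pure f M 1 m))) : α = β := by
  apply ExtendScalars.hom_ext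
  intro w
  show α (pure g _ 1 w) = β (pure g _ 1 w)
  induction w using pure_induction f M with
  | h0 => rw [pure_zero, map_zero, map_zero]
  | hadd x y hx hy => rw [pure_add, map_add, map_add, hx, hy]
  | h s m => rw [pure_one_smul, map_smul, map_smul, h]

end ExtendScalars

theorem pullHom_pure {C : Type v} [Category.{u} C] (H : C ⥤ CommRingCat.{u}) {A B X : C}
    (b₁ b₂ : A ⟶ B) (g : B ⟶ X) (c₁ c₂ : A ⟶ X) (h₁ : b₁.toLoc ≫ g.toLoc = c₁.toLoc)
    (M : ModuleCat.{u} (H.obj A))
    (φ : (extendScalars (H.map b₁).hom).obj M ⟶ (extendScalars (H.map b₂).hom).obj M)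
    (φ' : (extendScalars (H.map c₁).hom).obj M ⟶ (extendScalars (H.map c₂).hom).obj M)
    (i : (extendScalars (H.map c₁).hom).obj M ⟶
      (extendScalars (H.map g).hom).obj ((extendScalars (H.map b₁).hom).obj M))
    (hi : i = ((H.toPseudofunctor.comp CommRingCat.moduleCatExtendScalarsPseudofunctor).mapComp'
      b₁.toLoc g.toLoc c₁.toLoc h₁).hom.toNatTrans.app M)
    (j : (extendScalars (H.map g).hom).obj ((extendScalars (H.map b₂).hom).obj M) ⟶
      (extendScalars (H.map c₂).hom).obj M)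
    (hφ : i ≫ (extendScalars (H.map g).hom).map φ ≫ j = φ') (m : M) :
    φ' (pure (H.map c₁).hom M 1 m) =
      j (pure (H.map g).hom _ 1 (φ (pure (H.map b₁).hom M 1 m))) := by
  subst hφ
  rw [ConcreteCategory.comp_apply, ConcreteCategory.comp_apply,
    mapComp'_hom_pure H b₁ g c₁ h₁ M m i hi]
  rfl

variable {p : ℕ} [hp : Fact p.Prime] {n : ℕ}

local notation "W" => TruncatedWittVector p n
local notation "Wm" => WittGrp.truncMap p n

variable {R R' : Type u} [CommRing R] [CommRing R'] [Algebra R R']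

/-- A point as a morphism of opposite rings. -/
abbrev pt {T : Type u} [CommRing T] (g : R' →+* T) :
    (op (CommRingCat.of T) : CommRingCat.{u}ᵒᵖ) ⟶ op (CommRingCat.of R') :=
  (CommRingCat.ofHom g).op

variable (R R') in
/-- The covering. -/
abbrev cov : (op (CommRingCat.of R') : CommRingCat.{u}ᵒᵖ) ⟶ op (CommRingCat.of R) :=
  (CommRingCat.ofHom (algebraMap R R')).op

theorem pt_cov {T : Type u} [CommRing T] {g₁ g₂ : R' →+* T}
    (H : g₁.comp (algebraMap R R') = g₂.comp (algebraMap R R')) :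
    pt g₂ ≫ cov R R' = pt g₁ ≫ cov R R' :=
  Quiver.Hom.unop_inj (CommRingCat.hom_ext H.symm)

variable (D : (W4c3truncdispsmooth.wittModPF.{u} p n).DescentData
  (fun _ : PUnit.{u + 1} => (CommRingCat.ofHom (algebraMap R R')).op))

theorem hom_congr {Y : CommRingCat.{u}ᵒᵖ} {q q' : Y ⟶ op (CommRingCat.of R)} (h : q = q')
    (f₁ f₂ : Y ⟶ op (CommRingCat.of R')) (h₁ : f₁ ≫ cov R R' = q) (h₂ : f₂ ≫ cov R R' = q)
    (h₁' : f₁ ≫ cov R R' = q') (h₂' : f₂ ≫ cov R R' = q') :
    D.hom q (i₁ := PUnit.unit) (i₂ := PUnit.unit) f₁ f₂ h₁ h₂ =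
      D.hom q' (i₁ := PUnit.unit) (i₂ := PUnit.unit) f₁ f₂ h₁' h₂' := by
  subst h
  rfl

/-- The base change of the module along a point. -/
noncomputable abbrev G {T : Type u} [CommRing T] (g : R' →+* T) : ModuleCat.{u} (W T) :=
  (extendScalars (Wm g)).obj (W4c3truncdispsmooth.descObj (R' := R') D)

/-- The gluing map. -/
noncomputable def Φ (T : Type u) [CommRing T] (g₁ g₂ : R' →+* T)
    (H : g₁.comp (algebraMap R R') = g₂.comp (algebraMap R R')) : G D g₁ ⟶ G D g₂ :=
  D.hom (pt g₁ ≫ cov R R') (i₁ := PUnit.unit) (i₂ := PUnit.unit) (pt g₁) (pt g₂) rfl (pt_cov H)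

theorem Φ_self (T : Type u) [CommRing T] (g : R' →+* T) : Φ D T g g rfl = 𝟙 (G D g) :=
  D.hom_self (pt g ≫ cov R R') (pt g) rfl

theorem Φ_comp (T : Type u) [CommRing T] (g₁ g₂ g₃ : R' →+* T)
    (H : g₁.comp (algebraMap R R') = g₂.comp (algebraMap R R'))
    (H' : g₂.comp (algebraMap R R') = g₃.comp (algebraMap R R')) :
    Φ D T g₁ g₂ H ≫ Φ D T g₂ g₃ H' = Φ D T g₁ g₃ (H.trans H') := by
  have h := D.hom_comp (pt g₁ ≫ cov R R') (i₁ := PUnit.unit) (i₂ := PUnit.unit)
    (i₃ := PUnit.unit) (pt g₁) (pt g₂) (pt g₃) rfl (pt_cov H) (pt_cov (H.trans H'))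
  have h' := hom_congr D (pt_cov H) (pt g₂) (pt g₃) rfl (pt_cov H')
    (pt_cov H) (pt_cov (H.trans H'))
  simp only [Φ]
  rw [h']
  exact h

variable {r : ℕ}
  (π : (Fin r → TruncatedWittVector p n R') →ₗ[TruncatedWittVector p n R']
    W4c3truncdispsmooth.descObj D)
  (ι : W4c3truncdispsmooth.descObj D →ₗ[TruncatedWittVector p n R']
    (Fin r → TruncatedWittVector p n R'))

/-- Coordinates on a base change. -/
noncomputable def co {T : Type u} [CommRing T] (g : R' →+* T) :
    G D g ⟶ ModuleCat.of (W T) (Fin r → W T) :=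
  lift (Wm g) _ _
    { toFun := fun m => (Wm g) ∘ ι m
      map_zero' := by funext k; simp; rfl
      map_add' := fun m m' => by funext k; simp }
    (fun a m => by funext k; simp)

theorem co_gen {T : Type u} [CommRing T] (g : R' →+* T) (m : W4c3truncdispsmooth.descObj D) :
    co D ι g (pure (Wm g) _ 1 m) = (Wm g) ∘ ι m :=
  lift_gen _ _ _ _ _ m

theorem co_pure {T : Type u} [CommRing T] (g : R' →+* T) (s : W T)
    (m : W4c3truncdispsmooth.descObj D) :
    co D ι g (pure (Wm g) _ s m) = s • ((Wm g) ∘ ι m) :=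
  lift_pure _ _ _ _ _ s m

theorem gen_eq_sum {T : Type u} [CommRing T] (g : R' →+* T) (x : Fin r → W R') :
    pure (Wm g) (W4c3truncdispsmooth.descObj (R' := R') D) 1 (π x) =
      ∑ k, Wm g (x k) • pure (Wm g) _ 1 (π (Pi.single k 1)) := by
  conv_lhs => rw [pi_eq_sum_univ' x]
  rw [map_sum, pure_sum]
  refine Finset.sum_congr rfl fun k _ => ?_
  rw [map_smul, pure_one_smul]

theorem co_injective (hπι : ∀ m, π (ι m) = m) {T : Type u} [CommRing T] (g : R' →+* T) :
    Function.Injective (co D ι g) := by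
  refine Function.LeftInverse.injective
    (g := fun x : Fin r → W T => ∑ k, x k • pure (Wm g) _ 1 (π (Pi.single k 1))) fun z => ?_
  induction z using pure_induction (Wm g) (W4c3truncdispsmooth.descObj (R' := R') D) with
  | h0 =>
    simp only [map_zero]
    exact Finset.sum_eq_zero fun k _ => zero_smul _ _
  | hadd x y hx hy =>
    simp only [map_add] at hx hy ⊢
    conv_rhs => rw [← hx, ← hy, ← Finset.sum_add_distrib]
    exact Finset.sum_congr rfl fun k _ => add_smul _ _ _
  | h s m =>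
    rw [map_smul, co_gen]
    conv_rhs => rw [← hπι m, gen_eq_sum, Finset.smul_sum]
    exact Finset.sum_congr rfl fun k _ => (mul_smul _ _ _)

/-- The gluing matrix. -/
noncomputable def mat (T : Type u) [CommRing T] (g₁ g₂ : R' →+* T)
    (H : g₁.comp (algebraMap R R') = g₂.comp (algebraMap R R')) :
    Matrix (Fin r) (Fin r) (W T) :=
  Matrix.of fun j k => (show Fin r → W T from
    co D ι g₂ (Φ D T g₁ g₂ H (pure (Wm g₁) _ 1 (π (Pi.single k 1))))) j

theorem mat_mulVec (T : Type u) [CommRing T] (g₁ g₂ : R' →+* T)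
    (H : g₁.comp (algebraMap R R') = g₂.comp (algebraMap R R')) (x : Fin r → W R') :
    mat D π ι T g₁ g₂ H *ᵥ ((Wm g₁) ∘ x) =
      co D ι g₂ (Φ D T g₁ g₂ H (pure (Wm g₁) _ 1 (π x))) := by
  rw [gen_eq_sum D π g₁ x]
  simp only [map_sum, map_smul]
  funext j
  simp [Matrix.mulVec, dotProduct, mat, Finset.sum_apply, mul_comm]

theorem mat_mulVec_co (hπι : ∀ m, π (ι m) = m) (T : Type u) [CommRing T] (g₁ g₂ : R' →+* T)
    (H : g₁.comp (algebraMap R R') = g₂.comp (algebraMap R R')) (z : G D g₁) :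
    mat D π ι T g₁ g₂ H *ᵥ co D ι g₁ z = co D ι g₂ (Φ D T g₁ g₂ H z) := by
  induction z using pure_induction (Wm g₁) (W4c3truncdispsmooth.descObj (R' := R') D) with
  | h0 => simp
  | hadd x y hx hy =>
    simp only [map_add]
    rw [← hx, ← hy]
    exact Matrix.mulVec_add _ _ _
  | h s m =>
    simp only [map_smul]
    erw [co_gen]
    rw [← hπι m, ← mat_mulVec D π ι T g₁ g₂ H (ι m), hπι m]
    exact Matrix.mulVec_smul (mat D π ι T g₁ g₂ H) s ((Wm g₁) ∘ ι m)

theorem idem_mulVec_co (hπι : ∀ m, π (ι m) = m) (T : Type u) [CommRing T] (g : R' →+* T)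
    (z : G D g) :
    (LinearMap.toMatrix' (ι ∘ₗ π)).map (Wm g) *ᵥ co D ι g z = co D ι g z := by
  induction z using pure_induction (Wm g) (W4c3truncdispsmooth.descObj (R' := R') D) with
  | h0 => simp
  | hadd x y hx hy =>
    simp only [map_add]
    exact (Matrix.mulVec_add _ _ _).trans (by rw [hx, hy])
  | h s m =>
    simp only [map_smul]
    erw [co_gen]
    refine (Matrix.mulVec_smul ((LinearMap.toMatrix' (ι ∘ₗ π)).map (Wm g)) s ((Wm g) ∘ ι m)).trans ?_
    congr 1
    funext j
    rw [← RingHom.map_mulVec, LinearMap.toMatrix'_mulVec]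
    simp [hπι]

theorem co_natural {T T' : Type u} [CommRing T] [CommRing T'] (h : T →+* T') (g : R' →+* T)
    (pf : (pt g).op.toLoc ≫ (CommRingCat.ofHom h).op.op.toLoc = (pt (h.comp g)).op.toLoc)
    (j : (extendScalars (Wm h)).obj (G D g) ⟶ G D (h.comp g))
    (hj : j = (((unopUnop CommRingCat.{u} ⋙ W4c3truncdispsmooth.wittTrunc p n).toPseudofunctor.comp
        CommRingCat.moduleCatExtendScalarsPseudofunctor).mapComp'
      (pt g).op.toLoc (CommRingCat.ofHom h).op.op.toLoc (pt (h.comp g)).op.toLoc pf).inv.toNatTrans.app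
        (W4c3truncdispsmooth.descObj (R' := R') D))
    (z : G D g) :
    co D ι (h.comp g) (j (pure (Wm h) _ 1 z)) = (Wm h) ∘ (show Fin r → W T from co D ι g z) := by
  induction z using pure_induction (Wm g) (W4c3truncdispsmooth.descObj (R' := R') D) with
  | h0 =>
    rw [pure_zero, map_zero, map_zero, map_zero]
    funext k
    exact (map_zero (Wm h)).symm
  | hadd x y hx hy =>
    rw [pure_add, map_add, map_add, hx, hy, map_add]
    funext k
    simp
  | h s m =>
    rw [← pure_eq_smul]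
    have hm : j (pure (Wm h) _ 1 (pure (Wm g) _ s m)) = pure (Wm (h.comp g)) _ (Wm h s) m :=
      mapComp'_inv_pure (unopUnop CommRingCat.{u} ⋙ W4c3truncdispsmooth.wittTrunc p n)
        (pt g).op (CommRingCat.ofHom h).op.op (pt (h.comp g)).op pf
        (W4c3truncdispsmooth.descObj (R' := R') D) s m j hj
    rw [hm, co_pure, co_pure]
    funext k
    simp [WittGrp.truncMap_comp]

theorem mat_natural (T T' : Type u) [CommRing T] [CommRing T'] (h : T →+* T') (g₁ g₂ : R' →+* T)
    (H : g₁.comp (algebraMap R R') = g₂.comp (algebraMap R R'))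
    (H' : (h.comp g₁).comp (algebraMap R R') = (h.comp g₂).comp (algebraMap R R')) :
    mat D π ι T' (h.comp g₁) (h.comp g₂) H' = (mat D π ι T g₁ g₂ H).map (Wm h) := by
  refine Matrix.ext fun j k => ?_
  have key := pullHom_pure (unopUnop CommRingCat.{u} ⋙ W4c3truncdispsmooth.wittTrunc p n)
    (pt g₁).op (pt g₂).op (CommRingCat.ofHom h).op.op (pt (h.comp g₁)).op (pt (h.comp g₂)).op rfl
    (W4c3truncdispsmooth.descObj (R' := R') D) (Φ D T g₁ g₂ H) (Φ D T' (h.comp g₁) (h.comp g₂) H') _ rfl _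
    (D.pullHom_hom (CommRingCat.ofHom h).op (pt g₁ ≫ cov R R') (pt (h.comp g₁) ≫ cov R R') rfl
      (i₁ := PUnit.unit) (i₂ := PUnit.unit) (pt g₁) (pt g₂) rfl (pt_cov H)
      (pt (h.comp g₁)) (pt (h.comp g₂)) rfl rfl) (π (Pi.single k 1))
  show (show Fin r → W T' from co D ι (h.comp g₂) (Φ D T' (h.comp g₁) (h.comp g₂) H'
    (pure (Wm (h.comp g₁)) _ 1 (π (Pi.single k 1))))) j = _
  refine (congrArg (fun w : G D (h.comp g₂) => (show Fin r → W T' from co D ι (h.comp g₂) w) j) key).trans ?_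
  exact congrFun (co_natural D ι h g₂ rfl _ rfl _) j

/-- The matrix datum. -/
noncomputable def wdatum (hπι : ∀ m, π (ι m) = m) : WDatum p n R R' (Fin r) where
  e := LinearMap.toMatrix' (ι ∘ₗ π)
  θ := mat D π ι
  natural := mat_natural D π ι
  idem := by
    rw [← LinearMap.toMatrix'_comp]
    congr 1
    ext k : 2
    simp [hπι]
  right T _ g₁ g₂ H := by
    apply Matrix.ext_of_mulVec_single
    intro k
    have h1 : (Pi.single k 1 : Fin r → W T) = (Wm g₁) ∘ (Pi.single k 1 : Fin r → W R') := by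
      funext l
      simp only [Function.comp_apply, Pi.single_apply]
      split <;> simp
    have h2 : (LinearMap.toMatrix' (ι ∘ₗ π)).map (Wm g₁) *ᵥ ((Wm g₁) ∘ (Pi.single k 1 : Fin r → W R')) =
        (Wm g₁) ∘ ι (π (Pi.single k 1)) := by
      funext j
      rw [← RingHom.map_mulVec, LinearMap.toMatrix'_mulVec]
      rfl
    rw [← Matrix.mulVec_mulVec, h1, h2, mat_mulVec D π ι T g₁ g₂ H, hπι,
      mat_mulVec D π ι T g₁ g₂ H]
  left T _ g₁ g₂ H := by
    refine Matrix.ext fun j k => ?_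
    exact congrFun (idem_mulVec_co D π ι hπι T g₂
      (Φ D T g₁ g₂ H (pure (Wm g₁) _ 1 (π (Pi.single k 1))))) j
  self T _ g := by
    refine Matrix.ext fun j k => ?_
    simp only [mat, Matrix.of_apply, Φ_self]
    show (show Fin r → W T from co D ι g (pure (Wm g) _ 1 (π (Pi.single k 1)))) j = _
    rw [co_gen]
    rfl
  comp T _ g₁ g₂ g₃ H H' := by
    refine Matrix.ext fun j k => ?_
    refine (congrFun (mat_mulVec_co D π ι hπι T g₂ g₃ H'
      (Φ D T g₁ g₂ H (pure (Wm g₁) _ 1 (π (Pi.single k 1))))) j).trans ?_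
    exact congrArg (fun f : G D g₁ ⟶ G D g₃ =>
      (show Fin r → W T from co D ι g₃ (f (pure (Wm g₁) _ 1 (π (Pi.single k 1))))) j)
      (Φ_comp D T g₁ g₂ g₃ H H')

end Groth.Agent.H8Props.WittDesc
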