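import Groth.Prelude.Def_WittGrp
import Mathlib.RingTheory.WittVector.Domain
import Mathlib.RingTheory.Noetherian.Nilpotent
import Mathlib.RingTheory.Nilpotent.Lemmas

/-!
# The filtration of truncated Witt vectors and its ghost components
-/

set_option autoImplicit false
set_option linter.unusedSectionVars false
universe u

open WittVector

namespace Groth.Agent.H8Props.WittDesc

variable {p : ℕ} [hp : Fact p.Prime] {n : ℕ}

local notation "W" => TruncatedWittVector p n

variable {T T' : Type u} [CommRing T] [CommRing T']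

theorem ghostComponent_congr {X Y : WittVector p T} {j : ℕ} (h : ∀ i ≤ j, X.coeff i = Y.coeff i) :
    ghostComponent j X = ghostComponent j Y := by
  rw [ghostComponent_apply, ghostComponent_apply, aeval_wittPolynomial, aeval_wittPolynomial]
  refine Finset.sum_congr rfl fun i hi => ?_
  rw [h i (Nat.lt_succ_iff.1 (Finset.mem_range.1 hi))]

theorem ghost_out_truncate {j : ℕ} (hj : j < n) (X : WittVector p T) :
    ghostComponent j (WittVector.truncate n X).out = ghostComponent j X :=
  ghostComponent_congr fun i hi => by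
    have h := TruncatedWittVector.coeff_out (WittVector.truncate n X) ⟨i, by omega⟩
    rw [WittVector.coeff_truncate] at h
    exact h

/-- The `j`-th ghost component on truncated Witt vectors. -/
noncomputable def gh {j : ℕ} (hj : j < n) (T : Type u) [CommRing T] : W T →+* T where
  toFun x := ghostComponent j x.out
  map_one' := by
    rw [← map_one (WittVector.truncate (p := p) (R := T) n), ghost_out_truncate hj, map_one]
  map_zero' := by
    rw [← map_zero (WittVector.truncate (p := p) (R := T) n), ghost_out_truncate hj, map_zero]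
  map_mul' x y := by
    obtain ⟨X, rfl⟩ := WittVector.truncate_surjective p n T x
    obtain ⟨Y, rfl⟩ := WittVector.truncate_surjective p n T y
    rw [← map_mul, ghost_out_truncate hj, ghost_out_truncate hj, ghost_out_truncate hj, map_mul]
  map_add' x y := by
    obtain ⟨X, rfl⟩ := WittVector.truncate_surjective p n T x
    obtain ⟨Y, rfl⟩ := WittVector.truncate_surjective p n T y
    rw [← map_add, ghost_out_truncate hj, ghost_out_truncate hj, ghost_out_truncate hj, map_add]

theorem gh_truncate {j : ℕ} (hj : j < n) (X : WittVector p T) :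
    gh hj T (WittVector.truncate n X) = ghostComponent j X :=
  ghost_out_truncate hj X

theorem gh_natural {j : ℕ} (hj : j < n) (f : T →+* T') (x : W T) :
    gh hj T' (WittGrp.truncMap p n f x) = f (gh hj T x) := by
  obtain ⟨X, rfl⟩ := WittVector.truncate_surjective p n T x
  rw [WittGrp.truncMap_truncate, gh_truncate, gh_truncate, ghostComponent_apply,
    ghostComponent_apply, aeval_wittPolynomial, aeval_wittPolynomial, map_sum]
  simp only [map_mul, map_pow, map_natCast, WittVector.map_coeff]

theorem gh_zero (h : 0 < n) (x : W T) : gh h T x = x.coeff ⟨0, h⟩ := by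
  obtain ⟨X, rfl⟩ := WittVector.truncate_surjective p n T x
  rw [gh_truncate, ghostComponent_apply, aeval_wittPolynomial, Finset.sum_range_one,
    WittVector.coeff_truncate]
  simp

/-- The first `j` components vanish. -/
def Low (j : ℕ) (z : W T) : Prop :=
  ∀ i : Fin n, i.val < j → z.coeff i = 0

theorem low_truncate_iff {j : ℕ} (hj : j ≤ n) (X : WittVector p T) :
    Low j (WittVector.truncate n X) ↔ ∀ i < j, X.coeff i = 0 := by
  refine ⟨fun h i hi => ?_, fun h i hi => by rw [WittVector.coeff_truncate]; exact h i.1 hi⟩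
  have h' := h ⟨i, by omega⟩ hi
  rwa [WittVector.coeff_truncate] at h'

theorem low_iff_ker {j : ℕ} (hj : j ≤ n) (z : W T) :
    Low j z ↔ z ∈ RingHom.ker (TruncatedWittVector.truncate (p := p) (R := T) hj) := by
  rw [RingHom.mem_ker]
  refine ⟨fun h => TruncatedWittVector.ext fun i => ?_, fun h i hi => ?_⟩
  · rw [TruncatedWittVector.coeff_truncate, TruncatedWittVector.coeff_zero]
    exact h _ (by simp)
  · have h' := congrArg (fun w => TruncatedWittVector.coeff ⟨i.1, hi⟩ w) h
    simp only [TruncatedWittVector.coeff_truncate, TruncatedWittVector.coeff_zero] at h'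
    exact h'

theorem Low.zero_left (z : W T) : Low 0 z := fun i hi => absurd hi (by omega)

theorem low_zero (j : ℕ) : Low j (0 : W T) := fun i _ => TruncatedWittVector.coeff_zero p n T i

theorem Low.eq_zero {z : W T} (h : Low n z) : z = 0 :=
  TruncatedWittVector.ext fun i => by rw [h i i.2, TruncatedWittVector.coeff_zero]

theorem Low.succ {j : ℕ} (hj : j < n) {z : W T} (h : Low j z) (h' : z.coeff ⟨j, hj⟩ = 0) :
    Low (j + 1) z := by
  intro i hi
  rcases Nat.lt_succ_iff_lt_or_eq.1 hi with h1 | h1
  · exact h i h1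
  · rwa [show i = ⟨j, hj⟩ from Fin.ext h1]

theorem Low.mono {i j : ℕ} (hij : i ≤ j) {z : W T} (h : Low j z) : Low i z :=
  fun k hk => h k (by omega)

theorem Low.add {j : ℕ} (hj : j ≤ n) {z z' : W T} (h : Low j z) (h' : Low j z') : Low j (z + z') := by
  rw [low_iff_ker hj] at *
  exact Ideal.add_mem _ h h'

theorem Low.neg {j : ℕ} (hj : j ≤ n) {z : W T} (h : Low j z) : Low j (-z) := by
  rw [low_iff_ker hj] at *
  exact neg_mem h

theorem Low.sub {j : ℕ} (hj : j ≤ n) {z z' : W T} (h : Low j z) (h' : Low j z') : Low j (z - z') := by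
  rw [low_iff_ker hj] at *
  exact Ideal.sub_mem _ h h'

theorem Low.mul_left {j : ℕ} (hj : j ≤ n) (x : W T) {z : W T} (h : Low j z) : Low j (x * z) := by
  rw [low_iff_ker hj] at *
  exact Ideal.mul_mem_left _ x h

theorem Low.sum {ι : Type*} {j : ℕ} (hj : j ≤ n) (s : Finset ι) {z : ι → W T}
    (h : ∀ i ∈ s, Low j (z i)) : Low j (∑ i ∈ s, z i) := by
  rw [low_iff_ker hj]
  exact Ideal.sum_mem _ fun i hi => (low_iff_ker hj _).1 (h i hi)

theorem Low.map {j : ℕ} (f : T →+* T') {z : W T} (h : Low j z) :
    Low j (WittGrp.truncMap p n f z) := fun i hi => by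
  rw [WittGrp.coeff_truncMap, h i hi, map_zero]

theorem coeff_iterate_V (X : WittVector p T) (j : ℕ) :
    (verschiebung^[j] X).coeff j = X.coeff 0 := by
  simpa using iterate_verschiebung_coeff X j 0

theorem coeff_add_low {j : ℕ} (hj : j < n) {z z' : W T} (h : Low j z) (h' : Low j z') :
    (z + z').coeff ⟨j, hj⟩ = z.coeff ⟨j, hj⟩ + z'.coeff ⟨j, hj⟩ := by
  obtain ⟨X, rfl⟩ := WittVector.truncate_surjective p n T z
  obtain ⟨Y, rfl⟩ := WittVector.truncate_surjective p n T z'
  rw [low_truncate_iff hj.le] at h h'
  rw [← map_add, WittVector.coeff_truncate, WittVector.coeff_truncate, WittVector.coeff_truncate]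
  simp only
  rw [eq_iterate_verschiebung h, eq_iterate_verschiebung h', ← iterate_map_add, coeff_iterate_V,
    coeff_iterate_V, coeff_iterate_V]
  exact map_add (WittVector.constantCoeff (p := p) (R := T)) _ _

theorem coeff_mul_low {j : ℕ} (hj : j < n) (x : W T) {z : W T} (h : Low j z) :
    (x * z).coeff ⟨j, hj⟩ = gh hj T x * z.coeff ⟨j, hj⟩ := by
  obtain ⟨X, rfl⟩ := WittVector.truncate_surjective p n T x
  obtain ⟨Z, rfl⟩ := WittVector.truncate_surjective p n T z
  rw [low_truncate_iff hj.le] at h
  rw [← map_mul, WittVector.coeff_truncate, WittVector.coeff_truncate, gh_truncate, mul_comm]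
  simp only
  conv_lhs => rw [eq_iterate_verschiebung h, iterate_verschiebung_mul_left, coeff_iterate_V,
    mul_coeff_zero]
  have h0 : ∀ (k : ℕ) (Y : WittVector p T) (m : ℕ),
      ghostComponent m (frobenius^[k] Y) = ghostComponent (m + k) Y := by
    intro k
    induction k with
    | zero => intro Y m; rfl
    | succ k ih =>
      intro Y m
      rw [Function.iterate_succ_apply, ih, ghostComponent_frobenius, add_assoc]
  have h1 : (frobenius^[j] X).coeff 0 = ghostComponent 0 (frobenius^[j] X) := by
    rw [ghostComponent_apply, aeval_wittPolynomial, Finset.sum_range_one]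
    simp
  rw [h1, h0 j X 0, zero_add, shift_coeff, add_zero, mul_comm]

/-- The element with `y` in place `j` and zero elsewhere. -/
noncomputable def single (j : ℕ) (y : T) : W T :=
  TruncatedWittVector.mk p fun i => if i.val = j then y else 0

theorem low_single (j : ℕ) (y : T) : Low j (single j y : W T) := fun i hi => by
  rw [single, TruncatedWittVector.coeff_mk, if_neg (by omega)]

theorem coeff_single {j : ℕ} (hj : j < n) (y : T) : (single j y : W T).coeff ⟨j, hj⟩ = y := by
  rw [single, TruncatedWittVector.coeff_mk, if_pos rfl]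

theorem isNilpotent_of_gh {x : W T} (h : ∀ (j : ℕ) (hj : j < n), IsNilpotent (gh hj T x)) :
    IsNilpotent x := by
  suffices H : ∀ j ≤ n, ∃ N : ℕ, Low j (x ^ N) by
    obtain ⟨N, hN⟩ := H n le_rfl
    exact ⟨N, hN.eq_zero⟩
  intro j
  induction j with
  | zero => exact fun _ => ⟨0, Low.zero_left _⟩
  | succ j ih =>
    intro hj
    obtain ⟨N, hN⟩ := ih (by omega)
    obtain ⟨M, hM⟩ := h j (by omega)
    refine ⟨M + N, Low.succ (by omega) ?_ ?_⟩
    · rw [pow_add]
      exact hN.mul_left (by omega) _
    · rw [pow_add, coeff_mul_low (by omega) _ hN, map_pow, hM, zero_mul]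

theorem gh_succ_of_coeff_zero {j : ℕ} (hj : j + 1 < n) {x : W T}
    (hx : x.coeff ⟨0, by omega⟩ = 0) : ∃ t : T, gh hj T x = p * t := by
  obtain ⟨X, rfl⟩ := WittVector.truncate_surjective p n T x
  rw [WittVector.coeff_truncate] at hx
  refine ⟨ghostComponent j (X.shift 1), ?_⟩
  rw [gh_truncate, ← ghostComponent_verschiebung]
  congr 1
  have h := eq_iterate_verschiebung (x := X) (n := 1) (fun i hi => by
    rw [show i = 0 by omega]; exact hx)
  simpa using h

/-- Elements with vanishing component zero are nilpotent when `p` is. -/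
theorem isNilpotent_of_coeff_zero (hp' : IsNilpotent (p : T)) (hn : 0 < n) {x : W T}
    (hx : x.coeff ⟨0, hn⟩ = 0) : IsNilpotent x := by
  refine isNilpotent_of_gh fun j hj => ?_
  cases j with
  | zero => rw [gh_zero, hx]; exact IsNilpotent.zero
  | succ j =>
    obtain ⟨t, ht⟩ := gh_succ_of_coeff_zero hj hx
    rw [ht]
    exact (Commute.all _ _).isNilpotent_mul_right hp'

/-- A matrix with nilpotent entries over a commutative ring is nilpotent. -/
theorem isNilpotent_matrix {A : Type*} [CommRing A] {ι : Type*} [Fintype ι] [DecidableEq ι]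
    (M : Matrix ι ι A) (h : ∀ i k, IsNilpotent (M i k)) : IsNilpotent M := by
  classical
  let I : Ideal A := Ideal.span (Set.range fun x : ι × ι => M x.1 x.2)
  have hfg : I.FG := Submodule.fg_span (Set.finite_range _)
  obtain ⟨N, hN⟩ : IsNilpotent I := by
    rw [hfg.isNilpotent_iff_le_nilradical]
    refine Ideal.span_le.2 ?_
    rintro _ ⟨x, rfl⟩
    exact mem_nilradical.2 (h x.1 x.2)
  have hk : ∀ (k : ℕ) (i l : ι), (M ^ k) i l ∈ I ^ k := by
    intro k
    induction k with
    | zero => intro i l; rw [pow_zero (a := I), Ideal.one_eq_top]; trivial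
    | succ k ih =>
      intro i l
      rw [pow_succ, pow_succ, Matrix.mul_apply]
      exact Ideal.sum_mem _ fun c _ =>
        Ideal.mul_mem_mul (ih i c) (Ideal.subset_span ⟨(c, l), rfl⟩)
  refine ⟨N, Matrix.ext fun i l => ?_⟩
  have := hk N i l
  rw [hN] at this
  exact this

end Groth.Agent.H8Props.WittDesc
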